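import Groth.Prelude.Def_Biext
import Mathlib.CategoryTheory.Sites.LocallySurjective
import Mathlib.Algebra.Category.Grp.Abelian
import Mathlib.CategoryTheory.Preadditive.FunctorCategory

/-!
# Descent of a splitting along multiplication by non-zero integers
-/

set_option autoImplicit false
universe u

open CategoryTheory Opposite

namespace Groth.Agent.H4.BiextDescend

variable {C : Type (u + 1)} [Category.{u} C] {J : GrothendieckTopology C}
  {P Q G : Sheaf J AddCommGrpCat.{u + 1}}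

theorem zsmul_app (k : ℤ) (T : C) (x : P.obj.obj (op T)) :
    (k • 𝟙 P).hom.app (op T) x = k • x := by
  rfl

/-- Sections divisible by `k` after restriction. -/
def divSieve (k : ℤ) (T : C) (x : P.obj.obj (op T)) : Sieve T where
  arrows T' f := ∃ y : P.obj.obj (op T'), k • y = P.obj.map f.op x
  downward_closed := by
    rintro T' T'' f ⟨y, hy⟩ g
    refine ⟨P.obj.map g.op y, ?_⟩
    rw [← map_zsmul, hy, op_comp, P.obj.map_comp]
    rfl

/-- Divisibility of a sheaf, locally on sections. -/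
def IsLocDiv (P : Sheaf J AddCommGrpCat.{u + 1}) : Prop :=
  ∀ k : ℤ, k ≠ 0 → ∀ (T : C) (x : P.obj.obj (op T)), divSieve k T x ∈ J T

section

variable (B : Biext J P Q G)

theorem eq_of_locally {T : C} {a b : B.E.obj.obj (op T)} {R : Sieve T} (hR : R ∈ J T)
    (h : ∀ ⦃T' : C⦄ (f : T' ⟶ T), R f → B.E.obj.map f.op a = B.E.obj.map f.op b) : a = b :=
  (((isSheaf_iff_isSheaf_of_type J B.E.obj).mp B.E.property) R hR).isSeparatedFor.ext h

theorem act_right_cancel {T : C} {g g' : G.obj.obj (op T)} {x : B.E.obj.obj (op T)}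
    (h : B.act T g x = B.act T g' x) : g = g' :=
  (B.existsUnique_act T x (B.act T g x) (B.πP_act T g x).symm (B.πQ_act T g x).symm).unique rfl h.symm

theorem add₁_congr {T : C} {x x' z z' : B.E.obj.obj (op T)} (hx : x = x') (hz : z = z')
    (h : B.πQ T x = B.πQ T z) :
    B.add₁ T x z h = B.add₁ T x' z' (by rw [← hx, ← hz]; exact h) := by
  subst hx hz
  rfl

theorem add₂_congr {T : C} {x x' z z' : B.E.obj.obj (op T)} (hx : x = x') (hz : z = z')
    (h : B.πP T x = B.πP T z) :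
    B.add₂ T x z h = B.add₂ T x' z' (by rw [← hx, ← hz]; exact h) := by
  subst hx hz
  rfl

theorem add₁_act_act {T : C} (g g' : G.obj.obj (op T)) (x z : B.E.obj.obj (op T))
    (h : B.πQ T x = B.πQ T z) (h' : B.πQ T (B.act T g x) = B.πQ T (B.act T g' z)) :
    B.add₁ T (B.act T g x) (B.act T g' z) h' = B.act T (g + g') (B.add₁ T x z h) := by
  have h1 : B.πQ T x = B.πQ T (B.act T g' z) := h.trans (B.πQ_act T g' z).symm
  rw [B.add₁_act T g x _ h1, B.add₁_comm T x _ h1, B.add₁_act T g' z x h.symm, B.add₁_comm T z x,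
    ← B.add_act]

theorem add₂_act_act {T : C} (g g' : G.obj.obj (op T)) (x z : B.E.obj.obj (op T))
    (h : B.πP T x = B.πP T z) (h' : B.πP T (B.act T g x) = B.πP T (B.act T g' z)) :
    B.add₂ T (B.act T g x) (B.act T g' z) h' = B.act T (g + g') (B.add₂ T x z h) := by
  have h1 : B.πP T x = B.πP T (B.act T g' z) := h.trans (B.πP_act T g' z).symm
  rw [B.add₂_act T g x _ h1, B.add₂_comm T x _ h1, B.add₂_act T g' z x h.symm, B.add₂_comm T z x,
    ← B.add_act]

end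

variable {n m : ℤ} {B B' : Biext J P Q G}
  (φ : Biext.HomOver J (n • 𝟙 P) (m • 𝟙 Q) (𝟙 G) B' B) (s : Biext.Splitting J B')

/-- The image of the splitting. -/
noncomputable def τ₀ (T : C) (p : P.obj.obj (op T)) (q : Q.obj.obj (op T)) : B.E.obj.obj (op T) :=
  φ.map T (s.σ T p q)

theorem πP_τ₀ (T : C) (p : P.obj.obj (op T)) (q : Q.obj.obj (op T)) :
    B.πP T (τ₀ φ s T p q) = n • p := by
  rw [τ₀, φ.πP_map, s.πP_σ, zsmul_app]

theorem πQ_τ₀ (T : C) (p : P.obj.obj (op T)) (q : Q.obj.obj (op T)) :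
    B.πQ T (τ₀ φ s T p q) = m • q := by
  rw [τ₀, φ.πQ_map, s.πQ_σ, zsmul_app]

theorem τ₀_map {T T' : C} (f : T' ⟶ T) (p : P.obj.obj (op T)) (q : Q.obj.obj (op T)) :
    B.E.obj.map f.op (τ₀ φ s T p q) = τ₀ φ s T' (P.obj.map f.op p) (Q.obj.map f.op q) := by
  rw [τ₀, ← φ.map_res, s.σ_map]
  rfl

theorem τ₀_add₁ (T : C) (p p' : P.obj.obj (op T)) (q : Q.obj.obj (op T)) :
    τ₀ φ s T (p + p') q = B.add₁ T (τ₀ φ s T p q) (τ₀ φ s T p' q)
      ((πQ_τ₀ φ s T p q).trans (πQ_τ₀ φ s T p' q).symm) := by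
  rw [τ₀, s.σ_add₁, φ.map_add₁]
  rfl

theorem τ₀_add₂ (T : C) (p : P.obj.obj (op T)) (q q' : Q.obj.obj (op T)) :
    τ₀ φ s T p (q + q') = B.add₂ T (τ₀ φ s T p q) (τ₀ φ s T p q')
      ((πP_τ₀ φ s T p q).trans (πP_τ₀ φ s T p q').symm) := by
  rw [τ₀, s.σ_add₂, φ.map_add₂]
  rfl

/-- `n`-torsion sections. -/
abbrev tor (P : Sheaf J AddCommGrpCat.{u + 1}) (n : ℤ) (T : C) : AddSubgroup (P.obj.obj (op T)) :=
  (zsmulAddGroupHom n).ker

section Left

theorem exists_d (T : C) (x : tor P n T) (q : Q.obj.obj (op T)) :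
    ∃! g : G.obj.obj (op T), B.act T g (τ₀ φ s T 0 q) = τ₀ φ s T (x : P.obj.obj (op T)) q := by
  refine B.existsUnique_act T _ _ ?_ ?_
  · rw [πP_τ₀, πP_τ₀, smul_zero]
    exact (AddMonoidHom.mem_ker.mp x.2).symm
  · rw [πQ_τ₀, πQ_τ₀]

/-- The defect of invariance under torsion in the first variable. -/
noncomputable def d (T : C) (x : tor P n T) (q : Q.obj.obj (op T)) : G.obj.obj (op T) :=
  (exists_d φ s T x q).exists.choose

theorem act_d (T : C) (x : tor P n T) (q : Q.obj.obj (op T)) :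
    B.act T (d φ s T x q) (τ₀ φ s T 0 q) = τ₀ φ s T (x : P.obj.obj (op T)) q :=
  (exists_d φ s T x q).exists.choose_spec

theorem d_add_left (T : C) (x y : tor P n T) (q : Q.obj.obj (op T)) :
    d φ s T (x + y) q = d φ s T x q + d φ s T y q := by
  refine act_right_cancel B (x := τ₀ φ s T 0 q) ?_
  have h0 : τ₀ φ s T 0 q = B.add₁ T (τ₀ φ s T 0 q) (τ₀ φ s T 0 q) rfl := by
    rw [← τ₀_add₁ φ s T 0 0 q]
    exact (congrArg (fun a => τ₀ φ s T a q) (add_zero 0)).symm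
  rw [act_d, AddSubgroup.coe_add, τ₀_add₁]
  conv_rhs => rw [h0]
  rw [← add₁_act_act B _ _ _ _ rfl (by rw [B.πQ_act, B.πQ_act])]
  exact add₁_congr B (act_d φ s T x q).symm (act_d φ s T y q).symm _

theorem d_add_right (T : C) (x : tor P n T) (q q' : Q.obj.obj (op T)) :
    d φ s T x (q + q') = d φ s T x q + d φ s T x q' := by
  refine act_right_cancel B (x := τ₀ φ s T 0 (q + q')) ?_
  rw [act_d, τ₀_add₂, τ₀_add₂,
    ← add₂_act_act B _ _ _ _ _ (by rw [B.πP_act, B.πP_act, πP_τ₀, πP_τ₀])]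
  exact add₂_congr B (act_d φ s T x q).symm (act_d φ s T x q').symm _

theorem d_eq_zero (T : C) (x : tor P n T) (r : Q.obj.obj (op T)) : d φ s T x (n • r) = 0 := by
  have h1 : d φ s T x (n • r) = n • d φ s T x r :=
    map_zsmul (AddMonoidHom.mk' (fun q => d φ s T x q) (d_add_right φ s T x)) n r
  have h2 : d φ s T (n • x) r = n • d φ s T x r :=
    map_zsmul (AddMonoidHom.mk' (fun a => d φ s T a r) (fun a b => d_add_left φ s T a b r)) n x
  have h3 : n • x = 0 := Subtype.ext (AddMonoidHom.mem_ker.mp x.2)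
  rw [h1, ← h2, h3]
  exact map_zero (AddMonoidHom.mk' (fun a => d φ s T a r) (fun a b => d_add_left φ s T a b r))

theorem τ₀_eq_of_left (hQ : IsLocDiv Q) (hn : n ≠ 0) {T : C} {p p' : P.obj.obj (op T)}
    (q : Q.obj.obj (op T)) (h : n • p = n • p') : τ₀ φ s T p q = τ₀ φ s T p' q := by
  refine eq_of_locally B (hQ n hn T q) (fun T' f hf => ?_)
  obtain ⟨r, hr⟩ := hf
  rw [τ₀_map, τ₀_map, ← hr]
  have hx : P.obj.map f.op p' - P.obj.map f.op p ∈ tor P n T' := by
    rw [AddMonoidHom.mem_ker, zsmulAddGroupHom_apply, smul_sub, ← map_zsmul, ← map_zsmul, h,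
      sub_self]
  have e0 := act_d φ s T' ⟨_, hx⟩ (n • r)
  rw [d_eq_zero, B.zero_act] at e0
  have e1 : τ₀ φ s T' (P.obj.map f.op p) (n • r) =
      τ₀ φ s T' (P.obj.map f.op p + 0) (n • r) := by rw [add_zero]
  rw [e1, τ₀_add₁]
  conv_rhs => rw [← add_sub_cancel (P.obj.map f.op p) (P.obj.map f.op p'), τ₀_add₁]
  exact add₁_congr B rfl e0 _

end Left

section Right

theorem exists_d' (T : C) (p : P.obj.obj (op T)) (y : tor Q m T) :
    ∃! g : G.obj.obj (op T), B.act T g (τ₀ φ s T p 0) = τ₀ φ s T p (y : Q.obj.obj (op T)) := by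
  refine B.existsUnique_act T _ _ ?_ ?_
  · rw [πP_τ₀, πP_τ₀]
  · rw [πQ_τ₀, πQ_τ₀, smul_zero]
    exact (AddMonoidHom.mem_ker.mp y.2).symm

/-- The defect of invariance under torsion in the second variable. -/
noncomputable def d' (T : C) (p : P.obj.obj (op T)) (y : tor Q m T) : G.obj.obj (op T) :=
  (exists_d' φ s T p y).exists.choose

theorem act_d' (T : C) (p : P.obj.obj (op T)) (y : tor Q m T) :
    B.act T (d' φ s T p y) (τ₀ φ s T p 0) = τ₀ φ s T p (y : Q.obj.obj (op T)) :=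
  (exists_d' φ s T p y).exists.choose_spec

theorem d'_add_right (T : C) (p : P.obj.obj (op T)) (x y : tor Q m T) :
    d' φ s T p (x + y) = d' φ s T p x + d' φ s T p y := by
  refine act_right_cancel B (x := τ₀ φ s T p 0) ?_
  have h0 : τ₀ φ s T p 0 = B.add₂ T (τ₀ φ s T p 0) (τ₀ φ s T p 0) rfl := by
    rw [← τ₀_add₂ φ s T p 0 0]
    exact (congrArg (fun a => τ₀ φ s T p a) (add_zero 0)).symm
  rw [act_d', AddSubgroup.coe_add, τ₀_add₂]
  conv_rhs => rw [h0]
  rw [← add₂_act_act B _ _ _ _ rfl (by rw [B.πP_act, B.πP_act])]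
  exact add₂_congr B (act_d' φ s T p x).symm (act_d' φ s T p y).symm _

theorem d'_add_left (T : C) (p p' : P.obj.obj (op T)) (y : tor Q m T) :
    d' φ s T (p + p') y = d' φ s T p y + d' φ s T p' y := by
  refine act_right_cancel B (x := τ₀ φ s T (p + p') 0) ?_
  rw [act_d', τ₀_add₁, τ₀_add₁,
    ← add₁_act_act B _ _ _ _ _ (by rw [B.πQ_act, B.πQ_act, πQ_τ₀, πQ_τ₀])]
  exact add₁_congr B (act_d' φ s T p y).symm (act_d' φ s T p' y).symm _

theorem d'_eq_zero (T : C) (r : P.obj.obj (op T)) (y : tor Q m T) : d' φ s T (m • r) y = 0 := by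
  have h1 : d' φ s T (m • r) y = m • d' φ s T r y :=
    map_zsmul (AddMonoidHom.mk' (fun p => d' φ s T p y) (fun a b => d'_add_left φ s T a b y)) m r
  have h2 : d' φ s T r (m • y) = m • d' φ s T r y :=
    map_zsmul (AddMonoidHom.mk' (fun a => d' φ s T r a) (d'_add_right φ s T r)) m y
  have h3 : m • y = 0 := Subtype.ext (AddMonoidHom.mem_ker.mp y.2)
  rw [h1, ← h2, h3]
  exact map_zero (AddMonoidHom.mk' (fun a => d' φ s T r a) (d'_add_right φ s T r))

theorem τ₀_eq_of_right (hP : IsLocDiv P) (hm : m ≠ 0) {T : C} (p : P.obj.obj (op T))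
    {q q' : Q.obj.obj (op T)} (h : m • q = m • q') : τ₀ φ s T p q = τ₀ φ s T p q' := by
  refine eq_of_locally B (hP m hm T p) (fun T' f hf => ?_)
  obtain ⟨r, hr⟩ := hf
  rw [τ₀_map, τ₀_map, ← hr]
  have hx : Q.obj.map f.op q' - Q.obj.map f.op q ∈ tor Q m T' := by
    rw [AddMonoidHom.mem_ker, zsmulAddGroupHom_apply, smul_sub, ← map_zsmul, ← map_zsmul, h,
      sub_self]
  have e0 := act_d' φ s T' (m • r) ⟨_, hx⟩
  rw [d'_eq_zero, B.zero_act] at e0
  have e1 : τ₀ φ s T' (m • r) (Q.obj.map f.op q) =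
      τ₀ φ s T' (m • r) (Q.obj.map f.op q + 0) := by rw [add_zero]
  rw [e1, τ₀_add₂]
  conv_rhs => rw [← add_sub_cancel (Q.obj.map f.op q) (Q.obj.map f.op q'), τ₀_add₂]
  exact add₂_congr B rfl e0 _

end Right

theorem τ₀_wd (hP : IsLocDiv P) (hQ : IsLocDiv Q) (hn : n ≠ 0) (hm : m ≠ 0) {T : C}
    {p p' : P.obj.obj (op T)} {q q' : Q.obj.obj (op T)} (h : n • p = n • p') (h' : m • q = m • q') :
    τ₀ φ s T p q = τ₀ φ s T p' q' :=
  (τ₀_eq_of_left φ s hQ hn q h).trans (τ₀_eq_of_right φ s hP hm p' h')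

/-- The property characterising the descended splitting. -/
def IsDesc (T : C) (p : P.obj.obj (op T)) (q : Q.obj.obj (op T)) (z : B.E.obj.obj (op T)) : Prop :=
  ∀ ⦃T' : C⦄ (f : T' ⟶ T) (p' : P.obj.obj (op T')) (q' : Q.obj.obj (op T')),
    n • p' = P.obj.map f.op p → m • q' = Q.obj.map f.op q → B.E.obj.map f.op z = τ₀ φ s T' p' q'

theorem exists_isDesc (hP : IsLocDiv P) (hQ : IsLocDiv Q) (hn : n ≠ 0) (hm : m ≠ 0) (T : C)
    (p : P.obj.obj (op T)) (q : Q.obj.obj (op T)) : ∃ z, IsDesc φ s T p q z := by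
  let R : Sieve T := divSieve n T p ⊓ divSieve m T q
  have hR : R ∈ J T := J.intersection_covering (hP n hn T p) (hQ m hm T q)
  let x : Presieve.FamilyOfElements B.E.obj R.arrows := fun T' f hf =>
    τ₀ φ s T' hf.1.choose hf.2.choose
  have hx : x.Compatible := by
    intro T₁ T₂ Z g₁ g₂ f₁ f₂ h₁ h₂ e
    simp only [x, τ₀_map]
    refine τ₀_wd φ s hP hQ hn hm ?_ ?_
    · rw [← map_zsmul, ← map_zsmul, h₁.1.choose_spec, h₂.1.choose_spec,
        ← ConcreteCategory.comp_apply, ← ConcreteCategory.comp_apply, ← P.obj.map_comp,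
        ← P.obj.map_comp, ← op_comp, ← op_comp, e]
    · rw [← map_zsmul, ← map_zsmul, h₁.2.choose_spec, h₂.2.choose_spec,
        ← ConcreteCategory.comp_apply, ← ConcreteCategory.comp_apply, ← Q.obj.map_comp,
        ← Q.obj.map_comp, ← op_comp, ← op_comp, e]
  have hE := ((isSheaf_iff_isSheaf_of_type J B.E.obj).mp B.E.property) R hR
  refine ⟨hE.amalgamate x hx, fun T' f p' q' hp hq => ?_⟩
  have hf : R f := ⟨⟨p', hp⟩, ⟨q', hq⟩⟩
  rw [hE.valid_glue hx f hf]
  exact τ₀_wd φ s hP hQ hn hm (hf.1.choose_spec.trans hp.symm) (hf.2.choose_spec.trans hq.symm)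

theorem isDesc_unique (hP : IsLocDiv P) (hQ : IsLocDiv Q) (hn : n ≠ 0) (hm : m ≠ 0) {T : C}
    {p : P.obj.obj (op T)} {q : Q.obj.obj (op T)} {z z' : B.E.obj.obj (op T)}
    (h : IsDesc φ s T p q z) (h' : IsDesc φ s T p q z') : z = z' := by
  refine eq_of_locally B (J.intersection_covering (hP n hn T p) (hQ m hm T q)) (fun T' f hf => ?_)
  obtain ⟨⟨p', hp⟩, ⟨q', hq⟩⟩ := hf
  rw [h f p' q' hp hq, h' f p' q' hp hq]

theorem isTrivial_of_pullback {n m : ℤ} (hP : IsLocDiv P) (hQ : IsLocDiv Q) (hn : n ≠ 0)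
    (hm : m ≠ 0) {B B' : Biext J P Q G}
    (φ : Biext.HomOver J (n • 𝟙 P) (m • 𝟙 Q) (𝟙 G) B' B) (hB' : Biext.IsTrivial J B') :
    Biext.IsTrivial J B := by
  obtain ⟨s⟩ := hB'
  let τ := fun T p q => (exists_isDesc φ s hP hQ hn hm T p q).choose
  have hτ : ∀ T p q, IsDesc φ s T p q (τ T p q) :=
    fun T p q => (exists_isDesc φ s hP hQ hn hm T p q).choose_spec
  have hπP : ∀ T p q, B.πP T (τ T p q) = p := by
    intro T p q
    refine ((Presheaf.isSheaf_iff_isSheaf_forget J P.obj (forget AddCommGrpCat.{u+1})).mp P.property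
      |> (isSheaf_iff_isSheaf_of_type J _).mp) _
      (J.intersection_covering (hP n hn T p) (hQ m hm T q)) |>.isSeparatedFor.ext (fun T' f hf => ?_)
    obtain ⟨⟨p', hp⟩, ⟨q', hq⟩⟩ := hf
    change P.obj.map f.op (B.πP T (τ T p q)) = P.obj.map f.op p
    rw [← B.πP_map, hτ T p q f p' q' hp hq, πP_τ₀, hp]
  have hπQ : ∀ T p q, B.πQ T (τ T p q) = q := by
    intro T p q
    refine ((Presheaf.isSheaf_iff_isSheaf_forget J Q.obj (forget AddCommGrpCat.{u+1})).mp Q.property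
      |> (isSheaf_iff_isSheaf_of_type J _).mp) _
      (J.intersection_covering (hP n hn T p) (hQ m hm T q)) |>.isSeparatedFor.ext (fun T' f hf => ?_)
    obtain ⟨⟨p', hp⟩, ⟨q', hq⟩⟩ := hf
    change Q.obj.map f.op (B.πQ T (τ T p q)) = Q.obj.map f.op q
    rw [← B.πQ_map, hτ T p q f p' q' hp hq, πQ_τ₀, hq]
  refine ⟨{ σ := τ, πP_σ := hπP, πQ_σ := hπQ, σ_map := ?_, σ_add₁ := ?_, σ_add₂ := ?_ }⟩
  · intro T T' f p q
    refine isDesc_unique φ s hP hQ hn hm ?_ (hτ T' _ _)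
    intro T'' g p' q' hp hq
    have key := hτ T p q (g ≫ f) p' q' (by rw [hp, op_comp, P.obj.map_comp]; rfl)
      (by rw [hq, op_comp, Q.obj.map_comp]; rfl)
    rw [← key, op_comp, B.E.obj.map_comp]
    rfl
  · intro T p p₂ q
    refine eq_of_locally B (J.intersection_covering
      (J.intersection_covering (hP n hn T p) (hP n hn T p₂)) (hQ m hm T q)) (fun T' f hf => ?_)
    obtain ⟨⟨⟨p', hp⟩, ⟨p₂', hp₂⟩⟩, ⟨q', hq⟩⟩ := hf
    rw [hτ T (p + p₂) q f (p' + p₂') q' (by rw [smul_add, hp, hp₂, map_add]) hq, B.add₁_map,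
      τ₀_add₁]
    exact add₁_congr B (hτ T p q f p' q' hp hq).symm (hτ T p₂ q f p₂' q' hp₂ hq).symm _
  · intro T p q q₂
    refine eq_of_locally B (J.intersection_covering (hP n hn T p)
      (J.intersection_covering (hQ m hm T q) (hQ m hm T q₂))) (fun T' f hf => ?_)
    obtain ⟨⟨p', hp⟩, ⟨q', hq⟩, ⟨q₂', hq₂⟩⟩ := hf
    rw [hτ T p (q + q₂) f p' (q' + q₂') hp (by rw [smul_add, hq, hq₂, map_add]), B.add₂_map,
      τ₀_add₂]
    exact add₂_congr B (hτ T p q f p' q' hp hq).symm (hτ T p q₂ f p' q₂' hp hq₂).symm _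

end Groth.Agent.H4.BiextDescend
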