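import Groth.Agent.H4.Biext.Fibre
import Groth.Prelude.Def_CGrpSh2
import Groth.Agent.Lib.HomShDual.Basic
import Mathlib.Algebra.Homology.DerivedCategory.Ext.ExtClass
import Mathlib.Algebra.Homology.DerivedCategory.Ext.ExactSequences

/-!
# The extension of `P` by `𝓗om(Q, G)` attached to a biextension with local partial splittings
-/

set_option autoImplicit false
universe w u

open CategoryTheory CategoryTheory.Limits Opposite
open Groth.Agent.H4.BiextFibre

set_option linter.style.haveILetI false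

namespace Groth.Agent.H4.BiextExtn

variable {C : Type (u + 1)} [Category.{u} C] {J : GrothendieckTopology C}
  {P Q G : Sheaf J AddCommGrpCat.{u + 1}} {B : Biext J P Q G}

section Two

variable {T : C} {q q' : Q.obj.obj (op T)}

/-- The second law on the groups above sections of `Q`. -/
def two (a : Fb B T q) (b : Fb B T q') (h : a.p = b.p) : Fb B T (q + q') :=
  ⟨B.add₂ T a.1 b.1 h, (B.πQ_add₂ _ _ _ _).trans (congrArg₂ (· + ·) a.2 b.2)⟩

theorem two_p (a : Fb B T q) (b : Fb B T q') (h : a.p = b.p) : (two a b h).p = a.p :=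
  B.πP_add₂ _ _ _ _

theorem two_congr {a a' : Fb B T q} {b b' : Fb B T q'} (ha : a = a') (hb : b = b') (h : a.p = b.p) :
    two a b h = two a' b' (by rw [← ha, ← hb]; exact h) := by
  subst ha hb
  rfl

theorem two_add (a c : Fb B T q) (b d : Fb B T q') (hab : a.p = b.p) (hcd : c.p = d.p) :
    two (a + c) (b + d) (by rw [Fb.p_add, Fb.p_add, hab, hcd]) = two a b hab + two c d hcd :=
  Fb.ext (B.compat T a.1 b.1 c.1 d.1 hab hcd (a.2.trans c.2.symm) (b.2.trans d.2.symm)).symm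

theorem two_zero : two (0 : Fb B T q) (0 : Fb B T q') (Fb.p_zero.trans Fb.p_zero.symm) = 0 := by
  refine Fb.eq_zero_of_coe ((two_p _ _ _).trans Fb.p_zero) ?_
  rw [← two_add]
  exact two_congr (add_zero _) (add_zero _) _

theorem two_act (g g' : G.obj.obj (op T)) (a : Fb B T q) (b : Fb B T q') (h : a.p = b.p) :
    two (a.act g) (b.act g') ((B.πP_act _ _ _).trans (h.trans (B.πP_act _ _ _).symm)) =
      (two a b h).act (g + g') := by
  refine Fb.ext ?_
  have h1 : B.πP T a.1 = B.πP T (B.act T g' b.1) := h.trans (B.πP_act T g' b.1).symm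
  change B.add₂ T (B.act T g a.1) (B.act T g' b.1) _ = B.act T (g + g') (B.add₂ T a.1 b.1 h)
  rw [B.add₂_act T g a.1 _ h1, B.add₂_comm T a.1 _ h1, B.add₂_act T g' b.1 a.1 h.symm,
    B.add₂_comm T b.1 a.1, ← B.add_act]

end Two

theorem Fb.act_add_act {T : C} {q : Q.obj.obj (op T)} (g g' : G.obj.obj (op T)) (x y : Fb B T q) :
    x.act g + y.act g' = (x + y).act (g + g') := by
  rw [Fb.act_add, Fb.add_comm' x, Fb.act_add, Fb.add_comm' y]
  exact Fb.ext (B.add_act T g g' _).symm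

/-- The indices: a test object over `T` and a section of `Q` on it. -/
abbrev Idx (Q : Sheaf J AddCommGrpCat.{u + 1}) (T : C) : Type (u + 1) :=
  Σ (T' : C) (_ : T' ⟶ T), Q.obj.obj (op T')

variable (B) in
/-- Families of sections. -/
abbrev K (T : C) : Type (u + 1) := ∀ i : Idx Q T, Fb B i.1 i.2.2

theorem K.val_congr {T T' : C} (σ : K B T) {f f' : T' ⟶ T} (h : f = f') (q : Q.obj.obj (op T')) :
    (σ ⟨T', f, q⟩).1 = (σ ⟨T', f', q⟩).1 := by subst h; rfl

/-- The conditions. -/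
structure IsSec {T : C} (p : P.obj.obj (op T)) (σ : K B T) : Prop where
  hp : ∀ i : Idx Q T, (σ i).p = P.obj.map i.2.1.op p
  nat : ∀ ⦃T' T'' : C⦄ (f : T' ⟶ T) (g : T'' ⟶ T') (q : Q.obj.obj (op T')),
    B.E.obj.map g.op (σ ⟨T', f, q⟩).1 = (σ ⟨T'', g ≫ f, Q.obj.map g.op q⟩).1
  add : ∀ ⦃T' : C⦄ (f : T' ⟶ T) (q q' : Q.obj.obj (op T')),
    σ ⟨T', f, q + q'⟩ =
    two (σ ⟨T', f, q⟩) (σ ⟨T', f, q'⟩) ((hp ⟨T', f, q⟩).trans (hp ⟨T', f, q'⟩).symm)

variable (B) in
/-- The group of partial splittings. -/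
def sub (T : C) : AddSubgroup (P.obj.obj (op T) × K B T) where
  carrier := {x | IsSec x.1 x.2}
  add_mem' {x y} hx hy :=
    { hp := fun i => (Fb.p_add _ _).trans
        ((congrArg₂ (· + ·) (hx.hp i) (hy.hp i)).trans (map_add _ _ _).symm)
      nat := fun T' T'' f g q => by
        refine congrArg Subtype.val
          (?_ : (x.2 ⟨T', f, q⟩ + y.2 ⟨T', f, q⟩).res g =
            x.2 ⟨T'', g ≫ f, Q.obj.map g.op q⟩ + y.2 ⟨T'', g ≫ f, Q.obj.map g.op q⟩)
        rw [Fb.res_add]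
        exact congrArg₂ (· + ·) (Fb.ext (hx.nat f g q)) (Fb.ext (hy.nat f g q))
      add := fun T' f q q' => by
        change x.2 _ + y.2 _ = _
        rw [hx.add, hy.add, ← two_add]
        rfl }
  zero_mem' :=
    { hp := fun i => Fb.p_zero.trans (map_zero _).symm
      nat := fun T' T'' f g q => congrArg Subtype.val (Fb.res_zero (B := B) g)
      add := fun T' f q q' => two_zero.symm }
  neg_mem' {x} hx :=
    { hp := fun i => (Fb.p_neg _).trans ((congrArg Neg.neg (hx.hp i)).trans (map_neg _ _).symm)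
      nat := fun T' T'' f g q => by
        let a : Fb B T' q := x.2 ⟨T', f, q⟩
        let b : Fb B T'' (Q.obj.map g.op q) := x.2 ⟨T'', g ≫ f, Q.obj.map g.op q⟩
        refine congrArg Subtype.val (?_ : (-a).res g = -b)
        rw [eq_neg_iff_add_eq_zero, show b = a.res g from Fb.ext (hx.nat f g q).symm,
          ← Fb.res_add, neg_add_cancel, Fb.res_zero]
      add := fun T' f q q' => by
        change -(x.2 _) = _
        rw [hx.add, neg_eq_iff_add_eq_zero]
        refine (two_add _ _ _ _ _ _).symm.trans ?_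
        refine (two_congr (add_neg_cancel _) (add_neg_cancel _) _).trans two_zero }

/-- Restriction of families. -/
def resHom {T T' : C} (g : T' ⟶ T) : sub B T →+ sub B T' where
  toFun x := ⟨(P.obj.map g.op x.1.1, fun i => x.1.2 ⟨i.1, i.2.1 ≫ g, i.2.2⟩),
    { hp := fun i => (x.2.hp _).trans (mapAb_comp_apply i.2.1 g _)
      nat := fun T₁ T₂ f h q => (x.2.nat (f ≫ g) h q).trans
        (K.val_congr x.1.2 (Category.assoc h f g).symm _)
      add := fun T₁ f q q' => x.2.add (f ≫ g) q q' }⟩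
  map_zero' := Subtype.ext (Prod.ext (map_zero _) rfl)
  map_add' x y := Subtype.ext (Prod.ext (map_add _ _ _) rfl)

theorem sub_ext {T : C} {x y : sub B T} (hp : x.1.1 = y.1.1)
    (h : ∀ T' (f : T' ⟶ T) (q : Q.obj.obj (op T')), (x.1.2 ⟨T', f, q⟩).1 = (y.1.2 ⟨T', f, q⟩).1) :
    x = y :=
  Subtype.ext (Prod.ext hp (funext fun i => Fb.ext (h i.1 i.2.1 i.2.2)))

variable (B) in
/-- The presheaf of partial splittings. -/
noncomputable def pre : Cᵒᵖ ⥤ AddCommGrpCat.{u + 1} where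
  obj T := AddCommGrpCat.of (sub B T.unop)
  map g := AddCommGrpCat.ofHom (resHom g.unop)
  map_id T := by
    refine AddCommGrpCat.ext fun x => sub_ext ?_ fun T' f q => K.val_congr x.1.2 (Category.comp_id f) q
    exact mapAb_id_apply _
  map_comp g h := by
    refine AddCommGrpCat.ext fun x => sub_ext ?_ fun T' f q =>
      K.val_congr x.1.2 (Category.assoc f h.unop g.unop).symm q
    exact mapAb_comp_apply h.unop g.unop _

theorem isSheaf_pre : Presheaf.IsSheaf J (pre B) := by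
  rw [Presheaf.isSheaf_iff_isSheaf_forget J (pre B) (forget AddCommGrpCat.{u + 1}),
    isSheaf_iff_isSheaf_of_type]
  intro T R hR x hx
  have hc : ∀ {T₁ T₂ : C} (g : T₂ ⟶ T₁) (f : T₁ ⟶ T) (hf : R f),
      resHom g (x f hf : sub B T₁) = (x (g ≫ f) (R.downward_closed hf g) : sub B T₂) := by
    intro T₁ T₂ g f hf
    exact (hx g (𝟙 T₂) hf (R.downward_closed hf g) (Category.id_comp _).symm).trans (by simp)
  obtain ⟨p, hp⟩ : ∃ p : P.obj.obj (op T), ∀ T' (f : T' ⟶ T) (hf : R f),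
      P.obj.map f.op p = (x f hf : sub B T').1.1 := by
    have hP := ((isSheaf_iff_isSheaf_of_type J _).mp (Biext.uSh J P).property) R hR
    let y : Presieve.FamilyOfElements (Biext.uSh J P).obj R.arrows := fun T' f hf =>
      (x f hf : sub B T').1.1
    have hy : y.Compatible := fun T₁ T₂ Z g₁ g₂ f₁ f₂ h₁ h₂ e =>
      congrArg (fun s : sub B Z => s.1.1) (hx g₁ g₂ h₁ h₂ e)
    exact ⟨hP.amalgamate y hy, fun T' f hf => hP.valid_glue hy f hf⟩
  have hgl : ∀ i : Idx Q T, ∃ z : B.E.obj.obj (op i.1), ∀ ⦃T'' : C⦄ (g : T'' ⟶ i.1)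
      (hg : R (g ≫ i.2.1)),
      B.E.obj.map g.op z = ((x (g ≫ i.2.1) hg : sub B T'').1.2 ⟨T'', 𝟙 _, Q.obj.map g.op i.2.2⟩).1 := by
    rintro ⟨T', f, q⟩
    refine Exists.elim (exists_glue B.E (J.pullback_stable f hR)
      (fun T'' g y => ∃ hg : R (g ≫ f),
        y = ((x (g ≫ f) hg : sub B T'').1.2 ⟨T'', 𝟙 _, Q.obj.map g.op q⟩).1) ?_ ?_ ?_)
      fun z hz => ⟨z, fun T'' g hg => (hz g hg).choose_spec⟩
    · rintro T₁ T₂ h g y ⟨hg, rfl⟩
      have hhg : R ((h ≫ g) ≫ f) := by rw [Category.assoc]; exact R.downward_closed hg h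
      refine ⟨hhg, ?_⟩
      refine ((x (g ≫ f) hg : sub B T₁).2.nat (𝟙 T₁) h _).trans ?_
      rw [← mapAb_comp_apply h g q]
      have e := congrArg (fun s : sub B T₂ => (s.1.2 ⟨T₂, 𝟙 _, Q.obj.map (h ≫ g).op q⟩).1)
        (hc h (g ≫ f) hg)
      have key : ∀ (a b : T₂ ⟶ T) (ha : R a) (hb : R b), a = b →
          ((x a ha : sub B T₂).1.2 ⟨T₂, 𝟙 _, Q.obj.map (h ≫ g).op q⟩).1 =
            ((x b hb : sub B T₂).1.2 ⟨T₂, 𝟙 _, Q.obj.map (h ≫ g).op q⟩).1 := by
        rintro a b ha hb rfl; rfl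
      have e0 : h ≫ 𝟙 T₁ = 𝟙 T₂ ≫ h := by rw [Category.comp_id, Category.id_comp]
      exact (K.val_congr _ e0 _).trans
        (e.trans (key _ _ _ hhg (Category.assoc h g f).symm))
    · rintro T₁ g y y' ⟨_, rfl⟩ ⟨_, rfl⟩
      rfl
    · exact fun T₁ g hg => ⟨_, hg, rfl⟩
  choose z hz using hgl
  have key : ∀ (i : Idx Q T) ⦃T'' : C⦄ (g : T'' ⟶ i.1) (hg : R (g ≫ i.2.1)),
      B.πQ T'' (B.E.obj.map g.op (z i)) = Q.obj.map g.op i.2.2 ∧
      B.πP T'' (B.E.obj.map g.op (z i)) = P.obj.map g.op (P.obj.map i.2.1.op p) := by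
    intro i T'' g hg
    rw [hz i g hg]
    refine ⟨((x (g ≫ i.2.1) hg : sub B T'').1.2 ⟨T'', 𝟙 _, Q.obj.map g.op i.2.2⟩).2, ?_⟩
    rw [← mapAb_comp_apply, hp _ _ hg]
    exact ((x (g ≫ i.2.1) hg : sub B T'').2.hp ⟨T'', 𝟙 _, Q.obj.map g.op i.2.2⟩).trans (mapAb_id_apply _)
  have hzQ : ∀ i, B.πQ i.1 (z i) = i.2.2 := fun i => sepAb (J.pullback_stable i.2.1 hR)
    fun T'' g hg => by rw [← B.πQ_map, (key i g hg).1]
  let σ : K B T := fun i => ⟨z i, hzQ i⟩
  have hσp : ∀ i, (σ i).p = P.obj.map i.2.1.op p := fun i => sepAb (J.pullback_stable i.2.1 hR)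
    fun T'' g hg => by
      change P.obj.map g.op (B.πP i.1 (z i)) = _
      rw [← B.πP_map, (key i g hg).2]
  have hσ : IsSec p σ := by
    refine ⟨hσp, fun T' T'' f g q => ?_, fun T' f q q' => Fb.ext ?_⟩
    · refine sep (J.pullback_stable (g ≫ f) hR) fun T₁ h hh => ?_
      have hh' : R ((h ≫ g) ≫ f) := by rw [Category.assoc]; exact hh
      rw [← BiextFibre.map_comp_apply, hz ⟨T'', g ≫ f, _⟩ h hh, hz ⟨T', f, q⟩ (h ≫ g) hh']
      have key2 : ∀ (a b : T₁ ⟶ T) (ha : R a) (hb : R b) (c d : Q.obj.obj (op T₁)), a = b → c = d →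
          ((x a ha : sub B T₁).1.2 ⟨T₁, 𝟙 _, c⟩).1 = ((x b hb : sub B T₁).1.2 ⟨T₁, 𝟙 _, d⟩).1 := by
        rintro a b ha hb c d rfl rfl; rfl
      exact key2 _ _ _ _ _ _ (Category.assoc h g f) (mapAb_comp_apply h g q)
    · refine sep (J.pullback_stable f hR) fun T₁ h hh => ?_
      rw [hz ⟨T', f, q + q'⟩ h hh]
      refine Eq.trans ?_ (B.add₂_map h _ _ _).symm
      have key3 : ∀ (c : Q.obj.obj (op T₁)), c = Q.obj.map h.op q + Q.obj.map h.op q' →
          ((x (h ≫ f) hh : sub B T₁).1.2 ⟨T₁, 𝟙 _, c⟩).1 =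
          ((x (h ≫ f) hh : sub B T₁).1.2 ⟨T₁, 𝟙 _, Q.obj.map h.op q + Q.obj.map h.op q'⟩).1 := by
        rintro c rfl; rfl
      rw [key3 _ (map_add _ _ _), (x (h ≫ f) hh : sub B T₁).2.add (𝟙 _)]
      simp only [σ, two, hz ⟨T', f, q⟩ h hh, hz ⟨T', f, q'⟩ h hh]
  refine ⟨(⟨(p, σ), hσ⟩ : sub B T), fun T' f hf => ?_, fun w hw => ?_⟩
  · refine sub_ext (hp T' f hf) fun T'' g q => ?_
    have hgf : R (g ≫ f) := R.downward_closed hf g
    have h1 := hz ⟨T'', g ≫ f, q⟩ (𝟙 T'') (by rw [Category.id_comp]; exact hgf)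
    rw [op_id, B.E.obj.map_id] at h1
    refine h1.trans ?_
    have e := congrArg (fun s : sub B T'' => (s.1.2 ⟨T'', 𝟙 _, q⟩).1) (hc g f hf)
    have key4 : ∀ (a b : T'' ⟶ T) (ha : R a) (hb : R b) (c d : Q.obj.obj (op T'')), a = b → c = d →
        ((x a ha : sub B T'').1.2 ⟨T'', 𝟙 _, c⟩).1 = ((x b hb : sub B T'').1.2 ⟨T'', 𝟙 _, d⟩).1 := by
      rintro a b ha hb c d rfl rfl; rfl
    refine (key4 _ _ _ hgf _ q (Category.id_comp _) (mapAb_id_apply _)).trans (e.symm.trans ?_)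
    exact K.val_congr _ (Category.id_comp g) q
  · have hw' : ∀ T' (f : T' ⟶ T) (hf : R f), resHom f (w : sub B T) = (x f hf : sub B T') :=
      fun T' f hf => hw f hf
    refine sub_ext (sepAb hR fun T' f hf => ?_) fun T' f q => ?_
    · exact (congrArg (fun s : sub B T' => s.1.1) (hw' T' f hf)).trans (hp T' f hf).symm
    · refine sep (J.pullback_stable f hR) fun T₁ g hg => ?_
      rw [(w : sub B T).2.nat f g q]
      change _ = B.E.obj.map g.op (z ⟨T', f, q⟩)
      rw [hz ⟨T', f, q⟩ g hg, ← hw' T₁ (g ≫ f) hg]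
      exact K.val_congr _ (Category.id_comp _).symm _

variable (B) in
/-- The sheaf of partial splittings. -/
noncomputable def ext : Sheaf J AddCommGrpCat.{u + 1} := ⟨pre B, isSheaf_pre⟩

variable (B) in
/-- The projection to `P`. -/
noncomputable def proj : ext B ⟶ P :=
  ⟨{ app := fun T => AddCommGrpCat.ofHom
      { toFun := fun x : sub B T.unop => x.1.1
        map_zero' := rfl
        map_add' := fun _ _ => rfl }
     naturality := fun _ _ _ => rfl }⟩

theorem homSh_app_comp {T T' T'' : C} (a : Q.over T ⟶ G.over T) (g : T' ⟶ T) (f : T'' ⟶ T')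
    (q : Q.obj.obj (op T'')) :
    ((HomSh.homSh J Q G).obj.map g.op a : Q.over T' ⟶ G.over T').hom.app (op (Over.mk f)) q =
      a.hom.app (op (Over.mk (f ≫ g))) q := rfl

theorem over_nat {T T' T'' : C} (a : Q.over T ⟶ G.over T) (f : T' ⟶ T) (g : T'' ⟶ T')
    (q : Q.obj.obj (op T')) :
    G.obj.map g.op (a.hom.app (op (Over.mk f)) q) =
      a.hom.app (op (Over.mk (g ≫ f))) (Q.obj.map g.op q) :=
  (NatTrans.naturality_apply a.hom (Over.homMk g : Over.mk (g ≫ f) ⟶ Over.mk f).op q).symm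

variable (B) in
/-- The inclusion of `𝓗om(Q, G)`. -/
noncomputable def incl : HomSh.homSh J Q G ⟶ ext B :=
  ⟨{ app := fun T => AddCommGrpCat.ofHom
      { toFun := fun a : Q.over T.unop ⟶ G.over T.unop =>
          (⟨(0, fun i => (0 : Fb B i.1 i.2.2).act (a.hom.app (op (Over.mk i.2.1)) i.2.2)),
            { hp := fun i => (B.πP_act _ _ _).trans (Fb.p_zero.trans (map_zero _).symm)
              nat := fun T' T'' f g q => by
                change B.E.obj.map g.op (B.act _ _ _) = B.act _ _ _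
                rw [B.act_map, over_nat]
                exact congrArg (B.act _ _) (congrArg Subtype.val (Fb.res_zero (B := B) g))
              add := fun T' f q q' => by
                refine Eq.trans ?_ (two_act _ _ _ _ (Fb.p_zero.trans Fb.p_zero.symm)).symm
                rw [two_zero]
                exact congrArg (fun g => Fb.act g (0 : Fb B T' (q + q'))) (map_add _ q q') }⟩ :
            sub B T.unop)
        map_zero' := by
          refine sub_ext rfl fun T' f q => ?_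
          exact B.zero_act _ _
        map_add' := fun a b => by
          refine sub_ext (add_zero _).symm fun T' f q => congrArg Subtype.val ?_
          exact Eq.symm ((Fb.act_add_act _ _ _ _).trans
            (congrArg (Fb.act _) (add_zero (0 : Fb B T' q)))) }
     naturality := fun T T' g => AddCommGrpCat.ext fun a =>
       sub_ext (map_zero _).symm fun T₁ f q => rfl }⟩

theorem incl_proj : incl B ≫ proj B = 0 :=
  Sheaf.hom_ext (NatTrans.ext (funext fun _ => AddCommGrpCat.ext fun _ => rfl))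

variable (B) in
/-- The sequence. -/
noncomputable def seq : ShortComplex (Sheaf J AddCommGrpCat.{u + 1}) :=
  ShortComplex.mk (incl B) (proj B) incl_proj

variable [HasSheafify J AddCommGrpCat.{u + 1}]

theorem mono_incl : Mono (seq B).f := by
  refine Lib.HomShDual.mono_of_sections J _ fun T a b h => ?_
  change Q.over T ⟶ G.over T at a b
  refine Sheaf.hom_ext (NatTrans.ext (funext fun V => AddCommGrpCat.ext fun q => ?_))
  obtain ⟨V⟩ := V
  exact act_cancel B (congrArg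
    (fun s : sub B T => (s.1.2 ⟨V.left, V.hom, q⟩).1) h)

theorem exact_seq : (seq B).Exact := by
  refine Lib.HomShDual.exact_of_sections J _ fun T s hs => ?_
  change sub B T at s
  change s.1.1 = 0 at hs
  have hex : ∀ i : Idx Q T, ∃ g, (0 : Fb B i.1 i.2.2).act g = s.1.2 i := fun i =>
    Fb.exists_act ((Fb.p_zero).trans (((s.2.hp i).trans (by rw [hs, map_zero])).symm))
  choose c hc using hex
  have hnat : ∀ {T' T'' : C} (f : T' ⟶ T) (g : T'' ⟶ T') (q : Q.obj.obj (op T')),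
      G.obj.map g.op (c ⟨T', f, q⟩) = c ⟨T'', g ≫ f, Q.obj.map g.op q⟩ := by
    intro T' T'' f g q
    refine act_cancel B (x := (0 : Fb B T'' (Q.obj.map g.op q)).1) ?_
    refine Eq.trans ?_ ((s.2.nat f g q).trans (congrArg Subtype.val (hc _)).symm)
    rw [← hc ⟨T', f, q⟩]
    exact ((congrArg (B.act _ _) (congrArg Subtype.val (Fb.res_zero (B := B) g)).symm).trans
      (B.act_map g _ _).symm)
  have hadd : ∀ {T' : C} (f : T' ⟶ T) (q q' : Q.obj.obj (op T')),
      c ⟨T', f, q + q'⟩ = c ⟨T', f, q⟩ + c ⟨T', f, q'⟩ := by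
    intro T' f q q'
    refine act_cancel B (x := (0 : Fb B T' (q + q')).1) ?_
    refine congrArg Subtype.val (?_ : Fb.act (c ⟨T', f, q + q'⟩) (0 : Fb B T' (q + q')) =
      Fb.act (c ⟨T', f, q⟩ + c ⟨T', f, q'⟩) 0)
    rw [hc, s.2.add]
    refine (two_congr (hc ⟨T', f, q⟩).symm (hc ⟨T', f, q'⟩).symm _).trans ?_
    exact (two_act _ _ _ _ (Fb.p_zero.trans Fb.p_zero.symm)).trans (congrArg _ two_zero)
  let a : Q.over T ⟶ G.over T :=
    ⟨{ app := fun V => AddCommGrpCat.ofHom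
        (AddMonoidHom.mk' (fun q => c ⟨V.unop.left, V.unop.hom, q⟩) (hadd V.unop.hom))
       naturality := fun V V' g => AddCommGrpCat.ext fun q => by
         refine Eq.trans ?_ (hnat V.unop.hom g.unop.left q).symm
         have key : ∀ (f f' : V'.unop.left ⟶ T) (r : Q.obj.obj (op V'.unop.left)), f = f' →
             c ⟨V'.unop.left, f, r⟩ = c ⟨V'.unop.left, f', r⟩ := by
           rintro f f' r rfl; rfl
         exact key _ _ _ (Over.w g.unop).symm }⟩
  refine ⟨a, ?_⟩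
  refine sub_ext hs.symm fun T' f q => ?_
  exact congrArg Subtype.val (hc ⟨T', f, q⟩)

theorem epi_proj (hloc : ∀ (T : C) (p : P.obj.obj (op T)), ∃ R ∈ J T, ∀ ⦃T' : C⦄ (f : T' ⟶ T),
    R f → ∃ σ : K B T', IsSec (P.obj.map f.op p) σ) : Epi (seq B).g := by
  refine (Sheaf.isLocallySurjective_iff_epi' AddCommGrpCat.{u + 1} _).1 ⟨fun {T} p => ?_⟩
  obtain ⟨R, hR, h⟩ := hloc T p
  refine J.superset_covering ?_ hR
  intro T' f hf
  obtain ⟨σ, hσ⟩ := h f hf
  exact ⟨(⟨(P.obj.map f.op p, σ), hσ⟩ : sub B T'), rfl⟩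

theorem isTrivial_of_section (s : P ⟶ ext B) (hs : s ≫ proj B = 𝟙 P) : Biext.IsTrivial J B := by
  let S := fun (T : C) (p : P.obj.obj (op T)) => (s.hom.app (op T) p : sub B T)
  have hfst : ∀ T p, (S T p).1.1 = p := fun T p =>
    congrArg (fun t : P ⟶ P => t.hom.app (op T) p) hs
  refine ⟨{
    σ := fun T p q => ((S T p).1.2 ⟨T, 𝟙 T, q⟩).1
    πP_σ := fun T p q => ((S T p).2.hp ⟨T, 𝟙 T, q⟩).trans ((mapAb_id_apply _).trans (hfst T p))
    πQ_σ := fun T p q => ((S T p).1.2 ⟨T, 𝟙 T, q⟩).2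
    σ_map := ?_, σ_add₁ := ?_, σ_add₂ := ?_ }⟩
  · intro T T' f p q
    refine ((S T p).2.nat (𝟙 T) f q).trans ?_
    have e : S T' (P.obj.map f.op p) = resHom f (S T p) := NatTrans.naturality_apply s.hom f.op p
    rw [e]
    exact K.val_congr _ ((Category.comp_id f).trans (Category.id_comp f).symm) _
  · intro T p p' q
    have e : S T (p + p') = S T p + S T p' := map_add (s.hom.app (op T)).hom p p'
    rw [e]
    rfl
  · intro T p q q'
    rw [(S T p).2.add]
    rfl

theorem isTrivial_of_ext [HasExt.{w} (Sheaf J AddCommGrpCat.{u + 1})]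
    (hloc : ∀ (T : C) (p : P.obj.obj (op T)), ∃ R ∈ J T, ∀ ⦃T' : C⦄ (f : T' ⟶ T),
      R f → ∃ σ : K B T', IsSec (P.obj.map f.op p) σ)
    (h₁ : ∀ e : Abelian.Ext.{w} P (HomSh.homSh J Q G) 1, e = 0) : Biext.IsTrivial J B := by
  haveI := mono_incl (B := B)
  haveI := epi_proj hloc
  have hS : (seq B).ShortExact := .mk' exact_seq inferInstance inferInstance
  obtain ⟨s, hs⟩ := Abelian.Ext.covariant_sequence_exact₃ P hS (Abelian.Ext.mk₀ (𝟙 P))
    (show 0 + 1 = 1 from rfl) (h₁ _)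
  obtain ⟨s, rfl⟩ := (Abelian.Ext.mk₀_bijective P (ext B)).2 s
  refine isTrivial_of_section s ((Abelian.Ext.mk₀_bijective P P).1 ?_)
  exact (Abelian.Ext.mk₀_comp_mk₀ s (seq B).g).symm.trans hs

end Groth.Agent.H4.BiextExtn
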