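import Groth.Prelude.Def_Biext
import Mathlib.CategoryTheory.Sites.LocallySurjective
import Mathlib.Algebra.Category.Grp.Abelian

/-!
# The groups of sections of a biextension above a fixed section of the second factor
-/

set_option autoImplicit false
universe u

open CategoryTheory Opposite

namespace Groth.Agent.H4.BiextFibre

variable {C : Type (u + 1)} [Category.{u} C] {J : GrothendieckTopology C}

theorem sep {F : Sheaf J (Type (u + 1))} {T : C} {a b : F.obj.obj (op T)} {R : Sieve T} (hR : R ∈ J T)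
    (h : ∀ ⦃T' : C⦄ (f : T' ⟶ T), R f → F.obj.map f.op a = F.obj.map f.op b) : a = b :=
  (((isSheaf_iff_isSheaf_of_type J F.obj).mp F.property) R hR).isSeparatedFor.ext h

theorem sepAb {F : Sheaf J AddCommGrpCat.{u + 1}} {T : C} {a b : F.obj.obj (op T)} {R : Sieve T}
    (hR : R ∈ J T) (h : ∀ ⦃T' : C⦄ (f : T' ⟶ T), R f → F.obj.map f.op a = F.obj.map f.op b) : a = b :=
  sep (F := Biext.uSh J F) hR h

/-- Glue sections satisfying a condition which determines them. -/
theorem exists_glue (F : Sheaf J (Type (u + 1))) {T : C} {R : Sieve T} (hR : R ∈ J T)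
    (D : ∀ ⦃T' : C⦄, (T' ⟶ T) → F.obj.obj (op T') → Prop)
    (restr : ∀ ⦃T' T'' : C⦄ (g : T'' ⟶ T') (f : T' ⟶ T) (y : F.obj.obj (op T')),
      D f y → D (g ≫ f) (F.obj.map g.op y))
    (uniq : ∀ ⦃T' : C⦄ (f : T' ⟶ T) (y y' : F.obj.obj (op T')), D f y → D f y' → y = y')
    (ex : ∀ ⦃T' : C⦄ (f : T' ⟶ T), R f → ∃ y, D f y) :
    ∃ z, ∀ ⦃T' : C⦄ (f : T' ⟶ T), R f → D f (F.obj.map f.op z) := by
  let x : Presieve.FamilyOfElements F.obj R.arrows := fun T' f hf => (ex f hf).choose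
  have hx : x.Compatible := by
    intro T₁ T₂ Z g₁ g₂ f₁ f₂ h₁ h₂ e
    refine uniq (g₁ ≫ f₁) _ _ (restr g₁ f₁ _ (ex f₁ h₁).choose_spec) ?_
    rw [e]
    exact restr g₂ f₂ _ (ex f₂ h₂).choose_spec
  have hF := ((isSheaf_iff_isSheaf_of_type J F.obj).mp F.property) R hR
  refine ⟨hF.amalgamate x hx, fun T' f hf => ?_⟩
  rw [hF.valid_glue hx f hf]
  exact (ex f hf).choose_spec

theorem map_comp_apply {F : Cᵒᵖ ⥤ Type (u + 1)} {T T' T'' : C} (g : T'' ⟶ T') (f : T' ⟶ T)
    (x : F.obj (op T)) : F.map (g ≫ f).op x = F.map g.op (F.map f.op x) := by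
  rw [op_comp, F.map_comp]; rfl

theorem mapAb_comp_apply {F : Cᵒᵖ ⥤ AddCommGrpCat.{u + 1}} {T T' T'' : C} (g : T'' ⟶ T') (f : T' ⟶ T)
    (x : F.obj (op T)) : F.map (g ≫ f).op x = F.map g.op (F.map f.op x) := by
  rw [op_comp, F.map_comp]; rfl

theorem mapAb_id_apply {F : Cᵒᵖ ⥤ AddCommGrpCat.{u + 1}} {T : C}
    (x : F.obj (op T)) : F.map (𝟙 T).op x = x := by
  rw [op_id, F.map_id]; rfl

variable {P Q G : Sheaf J AddCommGrpCat.{u + 1}}

/-- Exchange the two factors. -/
def swap (B : Biext J P Q G) : Biext J Q P G where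
  E := B.E
  πP := B.πQ
  πQ := B.πP
  πP_map := B.πQ_map
  πQ_map := B.πP_map
  act := B.act
  act_map := B.act_map
  πP_act := B.πQ_act
  πQ_act := B.πP_act
  zero_act := B.zero_act
  add_act := B.add_act
  existsUnique_act T x y h h' := B.existsUnique_act T x y h' h
  locallySurjective T q p := by
    obtain ⟨R, hR, h⟩ := B.locallySurjective T p q
    exact ⟨R, hR, fun T' f hf => (h f hf).imp fun _ => And.symm⟩
  add₁ := B.add₂
  πP_add₁ := B.πQ_add₂
  πQ_add₁ := B.πP_add₂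
  add₁_map := B.add₂_map
  add₁_comm := B.add₂_comm
  add₁_assoc := B.add₂_assoc
  add₁_act := B.add₂_act
  add₂ := B.add₁
  πP_add₂ := B.πQ_add₁
  πQ_add₂ := B.πP_add₁
  add₂_map := B.add₁_map
  add₂_comm := B.add₁_comm
  add₂_assoc := B.add₁_assoc
  add₂_act := B.add₁_act
  compat T x y z t hxy hzt hxz hyt := (B.compat T x z y t hxz hyt hxy hzt).symm

variable (B : Biext J P Q G)

theorem act_cancel {T : C} {g g' : G.obj.obj (op T)} {x : B.E.obj.obj (op T)}
    (h : B.act T g x = B.act T g' x) : g = g' :=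
  (B.existsUnique_act T x (B.act T g x) (B.πP_act T g x).symm (B.πQ_act T g x).symm).unique rfl h.symm

/-- Sections of `E` above `q`. -/
def Fb (T : C) (q : Q.obj.obj (op T)) : Type (u + 1) := {x : B.E.obj.obj (op T) // B.πQ T x = q}

variable {B} {T : C} {q : Q.obj.obj (op T)}

@[ext]
theorem Fb.ext {x y : Fb B T q} (h : x.1 = y.1) : x = y := Subtype.ext h

/-- The class in `P`. -/
def Fb.p (x : Fb B T q) : P.obj.obj (op T) := B.πP T x.1

/-- Restriction. -/
def Fb.res {T' : C} (f : T' ⟶ T) (x : Fb B T q) : Fb B T' (Q.obj.map f.op q) :=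
  ⟨B.E.obj.map f.op x.1, by rw [B.πQ_map, x.2]⟩

instance : Add (Fb B T q) :=
  ⟨fun x y => ⟨B.add₁ T x.1 y.1 (x.2.trans y.2.symm), (B.πQ_add₁ _ _ _ _).trans x.2⟩⟩

theorem Fb.coe_add (x y : Fb B T q) :
    (x + y).1 = B.add₁ T x.1 y.1 (x.2.trans y.2.symm) := rfl

theorem Fb.p_add (x y : Fb B T q) : (x + y).p = x.p + y.p := B.πP_add₁ _ _ _ _

theorem Fb.res_add {T' : C} (f : T' ⟶ T) (x y : Fb B T q) :
    (x + y).res f = x.res f + y.res f := Fb.ext (B.add₁_map f _ _ _)

/-- The action. -/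
def Fb.act (g : G.obj.obj (op T)) (x : Fb B T q) : Fb B T q :=
  ⟨B.act T g x.1, (B.πQ_act T g x.1).trans x.2⟩

theorem Fb.act_add (g : G.obj.obj (op T)) (x y : Fb B T q) : x.act g + y = (x + y).act g :=
  Fb.ext (B.add₁_act T g x.1 y.1 (x.2.trans y.2.symm))

theorem Fb.add_comm' (x y : Fb B T q) : x + y = y + x := Fb.ext (B.add₁_comm _ _ _ _)

theorem Fb.add_assoc' (x y z : Fb B T q) : x + y + z = x + (y + z) :=
  Fb.ext (B.add₁_assoc T x.1 y.1 z.1 (x.2.trans y.2.symm) (y.2.trans z.2.symm))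

theorem Fb.exists_act {x y : Fb B T q} (h : x.p = y.p) : ∃ g, x.act g = y := by
  obtain ⟨g, hg, -⟩ := B.existsUnique_act T x.1 y.1 h (x.2.trans y.2.symm)
  exact ⟨g, Fb.ext hg⟩

/-- Uniqueness in translation equations. -/
theorem Fb.add_left_cancel' {x z z' : Fb B T q} (hp : z.p = z'.p) (h : x + z = x + z') : z = z' := by
  obtain ⟨g, rfl⟩ := Fb.exists_act hp
  rw [Fb.add_comm' x z, Fb.add_comm' x (z.act g), Fb.act_add] at h
  have h0 : (z + x).act 0 = z + x := Fb.ext (B.zero_act _ _)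
  have hg : (0 : G.obj.obj (op T)) = g := act_cancel B ((congrArg Subtype.val (h0.trans h)))
  subst hg
  exact (Fb.ext (B.zero_act _ _)).symm

theorem exists_unit (T : C) (q : Q.obj.obj (op T)) :
    ∃ z : Fb B T q, z.p = 0 ∧ z + z = z := by
  obtain ⟨R, hR, hloc⟩ := B.locallySurjective T 0 q
  refine Exists.elim (exists_glue B.E hR
    (fun T' f y => ∃ h : B.πQ T' y = Q.obj.map f.op q, B.πP T' y = 0 ∧
      B.add₁ T' y y rfl = y) ?_ ?_ ?_) fun z hz => ?_
  rotate_left 3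
  · have hQ : B.πQ T z = q := sepAb hR fun T' f hf => by
      obtain ⟨h, -, -⟩ := hz f hf
      rw [← B.πQ_map, h]
    refine ⟨⟨z, hQ⟩, sepAb hR fun T' f hf => ?_, Fb.ext (sep hR fun T' f hf => ?_)⟩
    · obtain ⟨-, h, -⟩ := hz f hf
      change P.obj.map f.op (B.πP T z) = _
      rw [← B.πP_map, h, map_zero]
    · obtain ⟨hq', hp', h⟩ := hz f hf
      exact (B.add₁_map f z z rfl).trans h
  · rintro T' T'' g f y ⟨h, hp, he⟩
    refine ⟨by rw [B.πQ_map, h, mapAb_comp_apply], by rw [B.πP_map, hp, map_zero], ?_⟩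
    exact (B.add₁_map g y y rfl).symm.trans (congrArg (B.E.obj.map g.op) he)
  · rintro T' f y y' ⟨h, hp, he⟩ ⟨h', hp', he'⟩
    let a : Fb B T' (Q.obj.map f.op q) := ⟨y, h⟩
    let b : Fb B T' (Q.obj.map f.op q) := ⟨y', h'⟩
    have ha : a + a = a := Fb.ext he
    have hb : b + b = b := Fb.ext he'
    have e1 : a + b = a := by
      refine Fb.add_left_cancel' (x := b) ?_ ?_
      · rw [Fb.p_add]; exact (congrArg₂ (· + ·) hp hp').trans ((add_zero _).trans hp.symm)
      · rw [Fb.add_comm' a b, ← Fb.add_assoc', hb]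
    have e2 : b + a = b := by
      refine Fb.add_left_cancel' (x := a) ?_ ?_
      · rw [Fb.p_add]; exact (congrArg₂ (· + ·) hp' hp).trans ((add_zero _).trans hp'.symm)
      · rw [Fb.add_comm' b a, ← Fb.add_assoc', ha]
    exact congrArg Subtype.val (e1.symm.trans ((Fb.add_comm' a b).trans e2))
  · intro T' f hf
    obtain ⟨x, hxP, hxQ⟩ := hloc f hf
    rw [map_zero] at hxP
    let a : Fb B T' (Q.obj.map f.op q) := ⟨x, hxQ⟩
    obtain ⟨g, hg⟩ := Fb.exists_act (x := a) (y := a + a)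
      (by rw [Fb.p_add]; exact hxP.trans ((congrArg₂ (· + ·) hxP hxP).trans (add_zero _)).symm)
    let e := a.act (-g)
    refine ⟨e.1, e.2, (B.πP_act _ _ _).trans hxP, ?_⟩
    refine congrArg Subtype.val (?_ : e + e = e)
    refine Fb.ext ?_
    rw [Fb.act_add, Fb.add_comm' a, Fb.act_add, ← hg]
    change B.act T' (-g) (B.act T' (-g) (B.act T' g x)) = B.act T' (-g) x
    rw [← B.add_act T' (-g) g, neg_add_cancel, B.zero_act]

/-- The unit. -/
noncomputable def unit (B : Biext J P Q G) (T : C) (q : Q.obj.obj (op T)) : Fb B T q :=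
  (exists_unit T q).choose

theorem unit_p (T : C) (q : Q.obj.obj (op T)) : (unit B T q).p = 0 := (exists_unit T q).choose_spec.1

theorem unit_add_self (T : C) (q : Q.obj.obj (op T)) : unit B T q + unit B T q = unit B T q :=
  (exists_unit T q).choose_spec.2

theorem Fb.unit_add (x : Fb B T q) : unit B T q + x = x := by
  refine Fb.add_left_cancel' (x := unit B T q) ?_ ?_
  · rw [Fb.p_add, unit_p, zero_add]
  · rw [← Fb.add_assoc', unit_add_self]

theorem Fb.eq_unit {z : Fb B T q} (hp : z.p = 0) (h : z + z = z) : z = unit B T q := by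
  refine (Fb.add_left_cancel' (x := z) ((unit_p T q).trans hp.symm) ?_).symm
  rw [h, Fb.add_comm', Fb.unit_add]

theorem exists_neg (x : Fb B T q) : ∃ z : Fb B T q, z.p = -x.p ∧ x + z = unit B T q := by
  obtain ⟨R, hR, hloc⟩ := B.locallySurjective T (-x.p) q
  have huniq : ∀ ⦃T' : C⦄ (f : T' ⟶ T) (a b : Fb B T' (Q.obj.map f.op q)),
      a.p = b.p → x.res f + a = x.res f + b → a = b := fun T' f a b hp h => Fb.add_left_cancel' hp h
  refine Exists.elim (exists_glue B.E hR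
    (fun T' f y => ∃ h : B.πQ T' y = Q.obj.map f.op q, B.πP T' y = P.obj.map f.op (-x.p) ∧
      x.res f + ⟨y, h⟩ = (unit B T q).res f) ?_ ?_ ?_) fun z hz => ?_
  rotate_left 3
  · have hQ : B.πQ T z = q := sepAb hR fun T' f hf => by
      obtain ⟨h, -, -⟩ := hz f hf
      rw [← B.πQ_map, h]
    refine ⟨⟨z, hQ⟩, sepAb hR fun T' f hf => ?_, Fb.ext (sep hR fun T' f hf => ?_)⟩
    · obtain ⟨-, h, -⟩ := hz f hf
      change P.obj.map f.op (B.πP T z) = _
      rw [← B.πP_map, h]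
    · obtain ⟨hq', hp', h⟩ := hz f hf
      exact (B.add₁_map f x.1 z (x.2.trans hQ.symm)).trans (congrArg Subtype.val h)
  · rintro T' T'' g f y ⟨h, hp, he⟩
    refine ⟨by rw [B.πQ_map, h, mapAb_comp_apply], by rw [B.πP_map, hp, mapAb_comp_apply], ?_⟩
    refine Fb.ext ?_
    have h1 : ∀ w : Fb B T q, B.E.obj.map (g ≫ f).op w.1 = B.E.obj.map g.op (B.E.obj.map f.op w.1) :=
      fun w => map_comp_apply g f w.1
    have h2 := congrArg (fun w => B.E.obj.map g.op (Subtype.val w)) he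
    refine Eq.trans ?_ (h2.trans (h1 _).symm)
    refine Eq.trans ?_ (B.add₁_map g _ _ _).symm
    simp only [Fb.res, h1]
    rfl
  · rintro T' f y y' ⟨h, hp, he⟩ ⟨h', hp', he'⟩
    exact congrArg Subtype.val (huniq f ⟨y, h⟩ ⟨y', h'⟩ (hp.trans hp'.symm) (he.trans he'.symm))
  · intro T' f hf
    obtain ⟨w, hwP, hwQ⟩ := hloc f hf
    let a : Fb B T' (Q.obj.map f.op q) := ⟨w, hwQ⟩
    obtain ⟨g, hg⟩ := Fb.exists_act (x := x.res f + a) (y := (unit B T q).res f) (by
      rw [Fb.p_add]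
      change B.πP T' (B.E.obj.map f.op x.1) + B.πP T' w = B.πP T' (B.E.obj.map f.op (unit B T q).1)
      rw [B.πP_map, hwP, B.πP_map, ← map_add]
      exact congrArg _ ((add_neg_cancel x.p).trans (unit_p T q).symm))
    refine ⟨(a.act g).1, (a.act g).2, (B.πP_act _ _ _).trans hwP, ?_⟩
    change x.res f + a.act g = _
    rw [Fb.add_comm', Fb.act_add, Fb.add_comm', hg]

noncomputable instance : Zero (Fb B T q) := ⟨unit B T q⟩
noncomputable instance : Neg (Fb B T q) := ⟨fun x => (exists_neg x).choose⟩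

noncomputable instance : AddCommGroup (Fb B T q) where
  add_assoc := Fb.add_assoc'
  zero_add := Fb.unit_add
  add_zero x := (Fb.add_comm' x _).trans x.unit_add
  add_comm := Fb.add_comm'
  nsmul := nsmulRec
  zsmul := zsmulRec
  neg_add_cancel x := (Fb.add_comm' _ x).trans (exists_neg x).choose_spec.2

theorem Fb.p_zero : (0 : Fb B T q).p = 0 := unit_p T q

theorem Fb.p_neg (x : Fb B T q) : (-x).p = -x.p := (exists_neg x).choose_spec.1

theorem Fb.res_zero {T' : C} (f : T' ⟶ T) : (0 : Fb B T q).res f = 0 := by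
  refine Fb.eq_unit ?_ ?_
  · change B.πP T' (B.E.obj.map f.op _) = 0
    rw [B.πP_map]
    exact (congrArg _ (unit_p T q)).trans (map_zero _)
  · rw [← Fb.res_add, add_zero]

theorem Fb.eq_zero_of_coe {z : Fb B T q} (hp : z.p = 0) (h : z + z = z) : z = 0 := Fb.eq_unit hp h

end Groth.Agent.H4.BiextFibre
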