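import Groth.Agent.H4.Biext.Extension

/-!
# Local partial splittings from the vanishing of `Hom(P, 𝓔xt¹(Q, G))`
-/

set_option autoImplicit false
universe u

open CategoryTheory CategoryTheory.Limits Opposite
open Groth.Agent.H4.BiextFibre Groth.Agent.H4.BiextExtn

set_option linter.style.haveILetI false

namespace Groth.Agent.H4.BiextLocal

variable {C : Type (u + 1)} [Category.{u} C] {J : GrothendieckTopology C}
  {P Q G : Sheaf J AddCommGrpCat.{u + 1}}

theorem natAb {F M : Sheaf J AddCommGrpCat.{u + 1}} (φ : F ⟶ M) {T T' : C} (f : T' ⟶ T)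
    (x : F.obj.obj (op T)) :
    φ.hom.app (op T') (F.obj.map f.op x) = M.obj.map f.op (φ.hom.app (op T) x) :=
  NatTrans.naturality_apply φ.hom f.op x

section Descend

/-- Morphisms `Q|_T ⟶ M|_T` from values on covering data. -/
theorem descend (M : Sheaf J AddCommGrpCat.{u + 1}) {T : C}
    (X : ∀ ⦃T' : C⦄, (T' ⟶ T) → Type (u + 1))
    (π : ∀ ⦃T' : C⦄ (f : T' ⟶ T), X f → Q.obj.obj (op T'))
    (res : ∀ ⦃T' T'' : C⦄ (g : T'' ⟶ T') (f : T' ⟶ T), X f → X (g ≫ f))
    (hres : ∀ ⦃T' T'' : C⦄ (g : T'' ⟶ T') (f : T' ⟶ T) (x : X f),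
      π (g ≫ f) (res g f x) = Q.obj.map g.op (π f x))
    (v : ∀ ⦃T' : C⦄ (f : T' ⟶ T), X f → M.obj.obj (op T'))
    (hnat : ∀ ⦃T' T'' : C⦄ (g : T'' ⟶ T') (f : T' ⟶ T) (x : X f),
      M.obj.map g.op (v f x) = v (g ≫ f) (res g f x))
    (huniq : ∀ ⦃T' : C⦄ (f : T' ⟶ T) (x y : X f), π f x = π f y → v f x = v f y)
    (hadd : ∀ ⦃T' : C⦄ (f : T' ⟶ T) (x y : X f),
      ∃ z, π f z = π f x + π f y ∧ v f z = v f x + v f y)
    (hcov : ∀ ⦃T' : C⦄ (f : T' ⟶ T) (q : Q.obj.obj (op T')), ∃ R ∈ J T', ∀ ⦃T'' : C⦄ (g : T'' ⟶ T'),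
      R g → ∃ x : X (g ≫ f), π (g ≫ f) x = Q.obj.map g.op q) :
    ∃ a : Q.over T ⟶ M.over T, ∀ ⦃T' : C⦄ (f : T' ⟶ T) (x : X f),
      a.hom.app (op (Over.mk f)) (π f x) = v f x := by
  have vcongr : ∀ {T' : C} {f f' : T' ⟶ T} (e : f = f') (x : X f) (y : X f'),
      π f x = π f' y → v f x = v f' y := by
    rintro T' f f' rfl x y h
    exact huniq f x y h
  let IsVal : ∀ {T' : C}, (T' ⟶ T) → Q.obj.obj (op T') → M.obj.obj (op T') → Prop :=
    fun {T'} f q z => ∀ ⦃T'' : C⦄ (g : T'' ⟶ T') (x : X (g ≫ f)),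
      π (g ≫ f) x = Q.obj.map g.op q → M.obj.map g.op z = v (g ≫ f) x
  have huval : ∀ {T' : C} (f : T' ⟶ T) (q : Q.obj.obj (op T')) (z z' : M.obj.obj (op T')),
      IsVal f q z → IsVal f q z' → z = z' := by
    intro T' f q z z' h h'
    obtain ⟨R, hR, hx⟩ := hcov f q
    refine sepAb hR fun T'' g hg => ?_
    obtain ⟨x, hx⟩ := hx g hg
    rw [h g x hx, h' g x hx]
  have hex : ∀ {T' : C} (f : T' ⟶ T) (q : Q.obj.obj (op T')), ∃ z, IsVal f q z := by
    intro T' f q
    obtain ⟨R, hR, hx⟩ := hcov f q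
    refine Exists.elim (exists_glue (Biext.uSh J M) hR
      (fun T'' g y => ∃ x : X (g ≫ f), π (g ≫ f) x = Q.obj.map g.op q ∧ v (g ≫ f) x = y) ?_ ?_ ?_)
      fun z hz => ⟨z, ?_⟩
    · rintro T₁ T₂ h g y ⟨x, hx, rfl⟩
      let x' := res h (g ≫ f) x
      have : ∀ {f' : T₂ ⟶ T}, h ≫ g ≫ f = f' → ∃ w : X f',
          π f' w = Q.obj.map h.op (π (g ≫ f) x) ∧ v f' w = M.obj.map h.op (v (g ≫ f) x) := by
        rintro f' rfl
        exact ⟨x', hres _ _ _, (hnat _ _ _).symm⟩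
      obtain ⟨w, hw, hw'⟩ := this (Category.assoc h g f).symm
      exact ⟨w, hw.trans (by rw [hx, mapAb_comp_apply]), hw'⟩
    · rintro T₁ g y y' ⟨x, hx, rfl⟩ ⟨x', hx', rfl⟩
      exact huniq _ x x' (hx.trans hx'.symm)
    · intro T₁ g hg
      obtain ⟨x, hx⟩ := hx g hg
      exact ⟨_, x, hx, rfl⟩
    · intro T'' g x hgx
      refine sepAb (J.pullback_stable g hR) fun T₁ h hh => ?_
      obtain ⟨y, hy, hy'⟩ := hz (h ≫ g) hh
      rw [hnat h (g ≫ f) x, ← mapAb_comp_apply]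
      refine hy'.symm.trans (vcongr (Category.assoc h g f) _ _ ?_)
      rw [hy, hres, hgx, mapAb_comp_apply]
  choose z hz using @hex
  have zcongr : ∀ {T' : C} {f f' : T' ⟶ T}, f = f' → ∀ q, z f q = z f' q := by
    rintro T' f f' rfl q; rfl
  have zadd : ∀ {T' : C} (f : T' ⟶ T) (q q' : Q.obj.obj (op T')), z f (q + q') = z f q + z f q' := by
    intro T' f q q'
    obtain ⟨R, hR, h1⟩ := hcov f q
    obtain ⟨R', hR', h2⟩ := hcov f q'
    refine sepAb (J.intersection_covering hR hR') fun T'' g hg => ?_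
    obtain ⟨x, hx⟩ := h1 g hg.1
    obtain ⟨y, hy⟩ := h2 g hg.2
    obtain ⟨w, hw, hw'⟩ := hadd _ x y
    rw [map_add, hz f q g x hx, hz f q' g y hy, ← hw']
    exact hz f (q + q') g w (by rw [hw, hx, hy, map_add])
  refine ⟨⟨{
      app := fun V => AddCommGrpCat.ofHom
        (AddMonoidHom.mk' (fun q => z V.unop.hom q) (zadd V.unop.hom))
      naturality := fun V V' g => AddCommGrpCat.ext fun q => ?_ }⟩, fun T' f x => ?_⟩
  · change z V'.unop.hom (Q.obj.map g.unop.left.op q) = M.obj.map g.unop.left.op (z V.unop.hom q)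
    refine (huval _ _ _ _ (hz _ _) ?_)
    intro T'' h y hy
    have e : h ≫ V'.unop.hom = (h ≫ g.unop.left) ≫ V.unop.hom := by
      rw [Category.assoc, Over.w]
    have : ∀ {f' : T'' ⟶ T}, h ≫ V'.unop.hom = f' → ∃ w : X f',
        π f' w = π (h ≫ V'.unop.hom) y ∧ v f' w = v (h ≫ V'.unop.hom) y := by
      rintro f' rfl; exact ⟨y, rfl, rfl⟩
    obtain ⟨w, hw, hw'⟩ := this e
    rw [← mapAb_comp_apply, ← hw']
    exact hz V.unop.hom q (h ≫ g.unop.left) w (by rw [hw, hy, mapAb_comp_apply])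
  · change z f (π f x) = v f x
    have : ∀ {f' : T' ⟶ T}, f = f' → ∃ w : X f', π f' w = π f x ∧ v f' w = v f x := by
      rintro f' rfl; exact ⟨x, rfl, rfl⟩
    obtain ⟨w, hw, hw'⟩ := this (Category.id_comp f).symm
    have h1 := hz f (π f x) (𝟙 T') w (by rw [hw, mapAb_id_apply])
    rw [mapAb_id_apply] at h1
    exact h1.trans hw'

theorem hom_ext_cov {M : Sheaf J AddCommGrpCat.{u + 1}} {T : C} (a b : Q.over T ⟶ M.over T)
    (h : ∀ ⦃T' : C⦄ (f : T' ⟶ T) (q : Q.obj.obj (op T')), ∃ R ∈ J T', ∀ ⦃T'' : C⦄ (g : T'' ⟶ T'),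
      R g → a.hom.app (op (Over.mk (g ≫ f))) (Q.obj.map g.op q) =
        b.hom.app (op (Over.mk (g ≫ f))) (Q.obj.map g.op q)) : a = b := by
  refine Sheaf.hom_ext (NatTrans.ext (funext fun V => AddCommGrpCat.ext fun q => ?_))
  obtain ⟨V⟩ := V
  obtain ⟨R, hR, hq⟩ := h V.hom q
  have hn : ∀ (c : Q.over T ⟶ M.over T) {T'' : C} (g : T'' ⟶ V.left),
      M.obj.map g.op (c.hom.app (op V) q) = c.hom.app (op (Over.mk (g ≫ V.hom))) (Q.obj.map g.op q) :=
    fun c T'' g => (NatTrans.naturality_apply c.hom (Over.homMk g : Over.mk (g ≫ V.hom) ⟶ V).op q).symm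
  refine (sepAb (F := M) (T := V.left) hR fun T'' g hg => ?_ :)
  rw [hn, hn, hq g hg]

end Descend

section Kernel

variable [HasSheafify J AddCommGrpCat.{u + 1}]

theorem exists_section_lift {A X Y : Sheaf J AddCommGrpCat.{u + 1}} (i : A ⟶ X) (f : X ⟶ Y)
    (w : i ≫ f = 0) (hi : IsLimit (KernelFork.ofι i w)) (T : C) (x : X.obj.obj (op T))
    (hx : f.hom.app (op T) x = 0) : ∃ a, i.hom.app (op T) a = x := by
  let E := sheafToPresheaf J AddCommGrpCat.{u + 1} ⋙ (evaluation _ _).obj (op T)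
  have hex : (ShortComplex.mk (E.map i) (E.map f)
      (by rw [← E.map_comp, w]; exact E.map_zero _ _)).Exact :=
    ShortComplex.exact_of_f_is_kernel _ (isLimitForkMapOfIsLimit' E w hi)
  exact (ShortComplex.ab_exact_iff _).1 hex x hx

theorem injective_app {A X : Sheaf J AddCommGrpCat.{u + 1}} (i : A ⟶ X) [Mono i] (T : C) :
    Function.Injective (i.hom.app (op T)) :=
  let E := sheafToPresheaf J AddCommGrpCat.{u + 1} ⋙ (evaluation _ _).obj (op T)
  (AddCommGrpCat.mono_iff_injective (E.map i)).1 inferInstance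

end Kernel

variable (B : Biext J P Q G)

/-- Sections above the restriction of `p`. -/
abbrev Xp {T : C} (p : P.obj.obj (op T)) {T' : C} (f : T' ⟶ T) : Type (u + 1) :=
  Fb (swap B) T' (P.obj.map f.op p)

variable {B} in
/-- Restriction. -/
def Xp.res {T : C} {p : P.obj.obj (op T)} {T' T'' : C} (g : T'' ⟶ T') (f : T' ⟶ T) (x : Xp B p f) :
    Xp B p (g ≫ f) :=
  ⟨B.E.obj.map g.op x.1,
    (B.πP_map g x.1).trans ((congrArg _ x.2).trans (mapAb_comp_apply g f p).symm)⟩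

/-- A section above the restriction of `p`. -/
def Xp.mk' {B : Biext J P Q G} {T : C} {p : P.obj.obj (op T)} {T' : C} {f : T' ⟶ T}
    (y : B.E.obj.obj (op T')) (h : B.πP T' y = P.obj.map f.op p) : Xp B p f := ⟨y, h⟩

theorem Xp.exists_cover {T : C} (p : P.obj.obj (op T)) {T' : C} (f : T' ⟶ T)
    (q : Q.obj.obj (op T')) : ∃ R ∈ J T', ∀ ⦃T'' : C⦄ (g : T'' ⟶ T'),
      R g → ∃ x : Xp B p (g ≫ f), B.πQ T'' x.1 = Q.obj.map g.op q := by
  obtain ⟨R, hR, h⟩ := B.locallySurjective T' (P.obj.map f.op p) q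
  refine ⟨R, hR, fun T'' g hg => ?_⟩
  obtain ⟨x, hx, hx'⟩ := h g hg
  exact ⟨⟨x, hx.trans (mapAb_comp_apply g f p).symm⟩, hx'⟩

section Res

variable [HasSheafify J AddCommGrpCat.{u + 1}]
variable (I : InjectiveResolution G)

/-- The first term of the resolution. -/
noncomputable abbrev aug : G ⟶ I.cocomplex.X 0 := I.ι.f 0

theorem aug_inj (T : C) : Function.Injective ((aug I).hom.app (op T)) :=
  haveI : Mono (aug I) := inferInstanceAs (Mono (I.ι.f 0))
  injective_app (aug I) T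

theorem d_aug (T : C) (a : G.obj.obj (op T)) :
    (I.cocomplex.d 0 1).hom.app (op T) ((aug I).hom.app (op T) a) = 0 :=
  congrArg (fun m : G ⟶ I.cocomplex.X 1 => m.hom.app (op T) a) I.ι_f_zero_comp_complex_d

theorem exists_aug (T : C) (x : (I.cocomplex.X 0).obj.obj (op T))
    (hx : (I.cocomplex.d 0 1).hom.app (op T) x = 0) : ∃ a, (aug I).hom.app (op T) a = x := by
  haveI : Mono (aug I) := inferInstanceAs (Mono (I.ι.f 0))
  let S := ShortComplex.mk (aug I) (I.cocomplex.d 0 1) I.ι_f_zero_comp_complex_d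
  have hS : S.Exact := I.exact₀
  haveI : Mono S.f := inferInstanceAs (Mono (aug I))
  exact exists_section_lift S.f S.g S.zero hS.fIsKernel T x hx

/-- An equivariant retraction-like map on the sections above `p`, with values in the resolution. -/
structure Good {T : C} (p : P.obj.obj (op T)) where
  /-- the values -/
  h : ∀ ⦃T' : C⦄ (f : T' ⟶ T), Xp B p f → (I.cocomplex.X 0).obj.obj (op T')
  nat : ∀ ⦃T' T'' : C⦄ (g : T'' ⟶ T') (f : T' ⟶ T) (x : Xp B p f),
    (I.cocomplex.X 0).obj.map g.op (h f x) = h (g ≫ f) (x.res g f)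
  add : ∀ ⦃T' : C⦄ (f : T' ⟶ T) (x y : Xp B p f), h f (x + y) = h f x + h f y
  act : ∀ ⦃T' : C⦄ (f : T' ⟶ T) (a : G.obj.obj (op T')) (x : Xp B p f),
    h f (x.act a) = (aug I).hom.app (op T') a + h f x

variable {B I} in
theorem Good.congr {T : C} {p : P.obj.obj (op T)} (H : Good B I p) {T' : C} {f f' : T' ⟶ T}
    (e : f = f') (x : Xp B p f) (y : Xp B p f') (hxy : x.1 = y.1) : H.h f x = H.h f' y := by
  subst e
  rw [Fb.ext hxy]

variable {B I} in
/-- Restriction of `Good`. -/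
noncomputable def Good.restr {T T₁ : C} {p : P.obj.obj (op T)} (H : Good B I p) (g : T₁ ⟶ T) :
    Good B I (P.obj.map g.op p) where
  h T' f x := H.h (f ≫ g) ⟨x.1, x.2.trans (mapAb_comp_apply f g p).symm⟩
  nat T' T'' k f x :=
    (H.nat k (f ≫ g) _).trans (H.congr (Category.assoc k f g).symm _ _ rfl)
  add T' f x y := (H.congr rfl _ _ rfl).trans (H.add (f ≫ g)
    ⟨x.1, x.2.trans (mapAb_comp_apply f g p).symm⟩ ⟨y.1, y.2.trans (mapAb_comp_apply f g p).symm⟩)
  act T' f a x := (H.congr rfl _ _ rfl).trans (H.act (f ≫ g) a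
    ⟨x.1, x.2.trans (mapAb_comp_apply f g p).symm⟩)

theorem nonempty_good {T : C} (p : P.obj.obj (op T)) : Nonempty (Good B I p) := by
  let R := J.overPullback AddCommGrpCat.{u + 1} T
  let E : (Over T)ᵒᵖ ⥤ AddCommGrpCat.{u + 1} :=
    { obj := fun V => AddCommGrpCat.of (Xp B p V.unop.hom)
      map := fun {V V'} g => AddCommGrpCat.ofHom (AddMonoidHom.mk'
        (fun x => (⟨B.E.obj.map g.unop.left.op x.1, (B.πP_map _ _).trans ((congrArg _ x.2).trans
          (by rw [← mapAb_comp_apply, Over.w]))⟩ : Xp B p V'.unop.hom))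
        (fun x y => Fb.ext (B.add₂_map _ _ _ _)))
      map_id := fun V => AddCommGrpCat.ext fun x => Fb.ext (by
        change B.E.obj.map (𝟙 V.unop.left).op x.1 = x.1
        rw [op_id, B.E.obj.map_id]; rfl)
      map_comp := fun {V V' V''} g g' => AddCommGrpCat.ext fun x =>
        Fb.ext (BiextFibre.map_comp_apply g'.unop.left g.unop.left x.1) }
  let j : (R.obj G).obj ⟶ E :=
    { app := fun V => AddCommGrpCat.ofHom (AddMonoidHom.mk'
        (fun a => (0 : Xp B p V.unop.hom).act a)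
        (fun a b => ((BiextExtn.Fb.act_add_act a b (0 : Xp B p V.unop.hom) 0).trans
          (congrArg (Fb.act (a + b)) (add_zero (0 : Xp B p V.unop.hom)))).symm))
      naturality := fun V V' g => AddCommGrpCat.ext fun a => Fb.ext (by
        refine Eq.trans ?_ (B.act_map g.unop.left a _).symm
        refine congrArg (B.act _ _) ?_
        have h0 := congrArg Subtype.val
          (Fb.res_zero (B := swap B) (T := V.unop.left) (q := P.obj.map V.unop.hom.op p) g.unop.left)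
        refine Eq.trans ?_ h0.symm
        have : ∀ (r r' : P.obj.obj (op V'.unop.left)), r = r' →
            (0 : Fb (swap B) V'.unop.left r).1 = (0 : Fb (swap B) V'.unop.left r').1 := by
          rintro r r' rfl; rfl
        exact this _ _ (by rw [← mapAb_comp_apply, Over.w])) }
  haveI : Mono j := by
    haveI : ∀ V, Mono (j.app V) := fun V => (AddCommGrpCat.mono_iff_injective _).2
      fun a b h => act_cancel B (congrArg Subtype.val h)
    exact NatTrans.mono_of_mono_app j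
  haveI : (sheafToPresheaf (J.over T) AddCommGrpCat.{u + 1}).PreservesInjectiveObjects :=
    Functor.preservesInjectiveObjects_of_adjunction_of_preservesMonomorphisms
      (sheafificationAdjunction (J.over T) AddCommGrpCat.{u + 1})
  haveI : Injective (R.obj (I.cocomplex.X 0)) := Functor.injective_obj_of_injective _ (I.injective 0)
  have hI : Injective ((sheafToPresheaf (J.over T) AddCommGrpCat.{u + 1}).obj
      (R.obj (I.cocomplex.X 0))) := Functor.injective_obj_of_injective _ ‹_›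
  haveI : Injective (R.obj (I.cocomplex.X 0)).obj := hI
  let k := Injective.factorThru (R.map (aug I)).hom j
  have hk : j ≫ k = (R.map (aug I)).hom := Injective.comp_factorThru _ _
  refine ⟨{ h := fun T' f x => k.app (op (Over.mk f)) x, nat := ?_, add := ?_, act := ?_ }⟩
  · intro T' T'' g f x
    exact (NatTrans.naturality_apply k (Over.homMk g : Over.mk (g ≫ f) ⟶ Over.mk f).op x).symm
  · intro T' f x y
    exact map_add (k.app (op (Over.mk f))).hom x y
  · intro T' f a x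
    have e : x.act a = (0 : Xp B p f).act a + x := by rw [Fb.act_add, zero_add]
    rw [e]
    refine (map_add (k.app (op (Over.mk f))).hom _ _).trans (congrArg (· + _) ?_)
    exact congrArg (fun m : (R.obj G).obj ⟶ _ => m.app (op (Over.mk f)) a) hk

/-- The cocycle attached to `h`. -/
def Assoc {T : C} {p : P.obj.obj (op T)} (H : Good B I p)
    (a : Q.over T ⟶ (I.cocomplex.X 1).over T) : Prop :=
  ∀ ⦃T' : C⦄ (f : T' ⟶ T) (x : Xp B p f),
    a.hom.app (op (Over.mk f)) (B.πQ T' x.1) = (I.cocomplex.d 0 1).hom.app (op T') (H.h f x)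

theorem exists_assoc {T : C} {p : P.obj.obj (op T)} (H : Good B I p) :
    ∃ a, Assoc B I H a := by
  refine descend (I.cocomplex.X 1) (fun T' f => Xp B p f) (fun T' f x => B.πQ T' x.1)
    (fun T' T'' g f x => x.res g f) (fun T' T'' g f x => B.πQ_map g x.1)
    (fun T' f x => (I.cocomplex.d 0 1).hom.app (op T') (H.h f x)) ?_ ?_ ?_
    (fun T' f q => Xp.exists_cover B p f q)
  · intro T' T'' g f x
    rw [← natAb, H.nat]
  · intro T' f x y hxy
    obtain ⟨c, hc⟩ := Fb.exists_act (x := x) (y := y) hxy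
    rw [← hc, H.act, map_add, d_aug, zero_add]
  · intro T' f x y
    exact ⟨x + y, Fb.p_add x y, by rw [H.add, map_add]⟩

theorem assoc_cycle {T : C} {p : P.obj.obj (op T)} (H : Good B I p)
    (a : Q.over T ⟶ (I.cocomplex.X 1).over T) (ha : Assoc B I H a) :
    a ≫ (J.overPullback _ T).map (I.cocomplex.d 1 2) = 0 := by
  refine hom_ext_cov _ _ fun T' f q => ?_
  obtain ⟨R, hR, h⟩ := Xp.exists_cover B p f q
  refine ⟨R, hR, fun T'' g hg => ?_⟩
  obtain ⟨x, hx⟩ := h g hg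
  rw [← hx]
  change (I.cocomplex.d 1 2).hom.app (op T'') (a.hom.app (op (Over.mk (g ≫ f))) (B.πQ T'' x.1)) = 0
  rw [ha (g ≫ f) x]
  exact congrArg (fun m : I.cocomplex.X 0 ⟶ I.cocomplex.X 2 => m.hom.app (op T'') (H.h (g ≫ f) x))
    (I.cocomplex.d_comp_d 0 1 2)

theorem exists_difference {T : C} {p p' : P.obj.obj (op T)} (H : Good B I p) (H' : Good B I p')
    (H'' : Good B I (p + p')) (a a' a'' : Q.over T ⟶ (I.cocomplex.X 1).over T)
    (ha : Assoc B I H a) (ha' : Assoc B I H' a') (ha'' : Assoc B I H'' a'') :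
    ∃ θ : Q.over T ⟶ (I.cocomplex.X 0).over T,
      θ ≫ (J.overPullback _ T).map (I.cocomplex.d 0 1) = a'' - a - a' := by
  let X : ∀ ⦃T' : C⦄, (T' ⟶ T) → Type (u + 1) := fun T' f =>
    {z : Xp B p f × Xp B p' f // B.πQ T' z.1.1 = B.πQ T' z.2.1}
  let sm : ∀ ⦃T' : C⦄ (f : T' ⟶ T), X f → Xp B (p + p') f := fun T' f z =>
    ⟨B.add₁ T' z.1.1.1 z.1.2.1 z.2, (B.πP_add₁ _ _ _ _).trans
      ((congrArg₂ (· + ·) z.1.1.2 z.1.2.2).trans (map_add _ _ _).symm)⟩
  have hcov : ∀ ⦃T' : C⦄ (f : T' ⟶ T) (q : Q.obj.obj (op T')), ∃ R ∈ J T', ∀ ⦃T'' : C⦄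
      (g : T'' ⟶ T'), R g → ∃ z : X (g ≫ f), B.πQ T'' z.1.1.1 = Q.obj.map g.op q := by
    intro T' f q
    obtain ⟨R, hR, h⟩ := Xp.exists_cover B p f q
    obtain ⟨R', hR', h'⟩ := Xp.exists_cover B p' f q
    refine ⟨R ⊓ R', J.intersection_covering hR hR', fun T'' g hg => ?_⟩
    obtain ⟨x, hx⟩ := h g hg.1
    obtain ⟨y, hy⟩ := h' g hg.2
    exact ⟨⟨(x, y), hx.trans hy.symm⟩, hx⟩
  obtain ⟨θ, hθ⟩ := descend (I.cocomplex.X 0) X (fun T' f z => B.πQ T' z.1.1.1)
    (fun T' T'' g f z => ⟨(z.1.1.res g f, z.1.2.res g f),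
      (B.πQ_map g _).trans ((congrArg _ z.2).trans (B.πQ_map g _).symm)⟩)
    (fun T' T'' g f z => B.πQ_map g _)
    (fun T' f z => H''.h f (sm f z) - H.h f z.1.1 - H'.h f z.1.2) (by
      intro T' T'' g f z
      rw [map_sub, map_sub, H.nat, H'.nat, H''.nat]
      refine congrArg (fun t => t - _ - _) (H''.congr rfl _ _ ?_)
      exact B.add₁_map g _ _ _) (by
      intro T' f x y hxy
      obtain ⟨c, hc⟩ := Fb.exists_act (x := x.1.1) (y := y.1.1) hxy
      obtain ⟨c', hc'⟩ := Fb.exists_act (x := x.1.2) (y := y.1.2)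
        (x.2.symm.trans (hxy.trans y.2))
      have e : sm f y = (sm f x).act (c + c') := by
        refine Fb.ext ?_
        change B.add₁ T' y.1.1.1 y.1.2.1 _ = B.act T' (c + c') (B.add₁ T' x.1.1.1 x.1.2.1 _)
        have h1 : B.πQ T' x.1.1.1 = B.πQ T' (B.act T' c' x.1.2.1) := by
          rw [B.πQ_act]; exact x.2
        simp only [← hc, ← hc']
        change B.add₁ T' (B.act T' c x.1.1.1) (B.act T' c' x.1.2.1) _ = _
        rw [B.add₁_act T' c x.1.1.1 _ h1, B.add₁_comm T' x.1.1.1 _ h1,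
          B.add₁_act T' c' x.1.2.1 x.1.1.1 x.2.symm, B.add₁_comm T' x.1.2.1 x.1.1.1, ← B.add_act]
      rw [e, H''.act, ← hc, ← hc', H.act, H'.act, map_add]
      abel) (by
      intro T' f x y
      refine ⟨⟨(x.1.1 + y.1.1, x.1.2 + y.1.2),
        (Fb.p_add (B := swap B) x.1.1 y.1.1).trans
          ((congrArg₂ (· + ·) x.2 y.2).trans (Fb.p_add (B := swap B) x.1.2 y.1.2).symm)⟩,
        Fb.p_add (B := swap B) x.1.1 y.1.1, ?_⟩
      have e : sm f ⟨(x.1.1 + y.1.1, x.1.2 + y.1.2),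
          (Fb.p_add (B := swap B) x.1.1 y.1.1).trans
          ((congrArg₂ (· + ·) x.2 y.2).trans (Fb.p_add (B := swap B) x.1.2 y.1.2).symm)⟩ =
          sm f x + sm f y :=
        Fb.ext (B.compat T' x.1.1.1 y.1.1.1 x.1.2.1 y.1.2.1 (x.1.1.2.trans y.1.1.2.symm)
          (x.1.2.2.trans y.1.2.2.symm) x.2 y.2)
      rw [e, H.add, H'.add, H''.add]
      abel) hcov
  refine ⟨θ, hom_ext_cov _ _ fun T' f q => ?_⟩
  obtain ⟨R, hR, h⟩ := hcov f q
  refine ⟨R, hR, fun T'' g hg => ?_⟩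
  obtain ⟨z, hz⟩ := h g hg
  rw [← hz]
  have e'' : B.πQ T'' (sm (g ≫ f) z).1 = B.πQ T'' z.1.1.1 := B.πQ_add₁ _ _ _ _
  have h1 := ha (g ≫ f) z.1.1
  have h2 := ha' (g ≫ f) z.1.2
  have h3 := ha'' (g ≫ f) (sm (g ≫ f) z)
  rw [← z.2] at h2
  rw [e''] at h3
  change (I.cocomplex.d 0 1).hom.app (op T'') (θ.hom.app (op (Over.mk (g ≫ f))) (B.πQ T'' z.1.1.1)) =
    a''.hom.app (op (Over.mk (g ≫ f))) (B.πQ T'' z.1.1.1) -
      a.hom.app (op (Over.mk (g ≫ f))) (B.πQ T'' z.1.1.1) -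
      a'.hom.app (op (Over.mk (g ≫ f))) (B.πQ T'' z.1.1.1)
  rw [h1, h2, h3]
  refine (congrArg _ (hθ (g ≫ f) z)).trans ?_
  rw [map_sub, map_sub]
  rfl

theorem exists_isSec {T : C} {p : P.obj.obj (op T)} (H : Good B I p)
    (a : Q.over T ⟶ (I.cocomplex.X 1).over T) (ha : Assoc B I H a)
    (θ : Q.over T ⟶ (I.cocomplex.X 0).over T)
    (hθ : θ ≫ (J.overPullback _ T).map (I.cocomplex.d 0 1) = a) :
    ∃ σ : BiextExtn.K B T, BiextExtn.IsSec p σ := by
  have hdθ : ∀ {T' : C} (f : T' ⟶ T) (q : Q.obj.obj (op T')),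
      (I.cocomplex.d 0 1).hom.app (op T') (θ.hom.app (op (Over.mk f)) q) =
        a.hom.app (op (Over.mk f)) q := fun f q =>
    congrArg (fun m : Q.over T ⟶ (I.cocomplex.X 1).over T => m.hom.app (op (Over.mk f)) q) hθ
  let Sol : ∀ {T' : C} (f : T' ⟶ T), Q.obj.obj (op T') → B.E.obj.obj (op T') → Prop :=
    fun {T'} f q y => ∃ (hp : B.πP T' y = P.obj.map f.op p),
      B.πQ T' y = q ∧ H.h f ⟨y, hp⟩ = θ.hom.app (op (Over.mk f)) q
  have huniq : ∀ {T' : C} (f : T' ⟶ T) (q : Q.obj.obj (op T')) (y y' : B.E.obj.obj (op T')),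
      Sol f q y → Sol f q y' → y = y' := by
    rintro T' f q y y' ⟨hp, hq, he⟩ ⟨hp', hq', he'⟩
    obtain ⟨c, hc⟩ := Fb.exists_act (x := (⟨y, hp⟩ : Xp B p f)) (y := ⟨y', hp'⟩) (hq.trans hq'.symm)
    rw [← hc, H.act, he, add_eq_right] at he'
    obtain rfl : c = 0 := aug_inj I T' (he'.trans (map_zero _).symm)
    exact ((congrArg Subtype.val hc).symm.trans (B.zero_act _ _)).symm
  have hrestr : ∀ {T' T'' : C} (g : T'' ⟶ T') (f : T' ⟶ T) (q : Q.obj.obj (op T'))
      (y : B.E.obj.obj (op T')), Sol f q y → Sol (g ≫ f) (Q.obj.map g.op q) (B.E.obj.map g.op y) := by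
    rintro T' T'' g f q y ⟨hp, hq, he⟩
    refine ⟨(Xp.res g f (⟨y, hp⟩ : Xp B p f)).2, by rw [B.πQ_map, hq], ?_⟩
    refine (H.nat g f ⟨y, hp⟩).symm.trans ((congrArg _ he).trans ?_)
    exact BiextExtn.over_nat θ f g q
  have hex : ∀ {T' : C} (f : T' ⟶ T) (q : Q.obj.obj (op T')), ∃ y, Sol f q y := by
    intro T' f q
    obtain ⟨R, hR, hloc⟩ := Xp.exists_cover B p f q
    refine Exists.elim (exists_glue B.E hR
      (fun T'' g y => Sol (g ≫ f) (Q.obj.map g.op q) y) ?_ ?_ ?_) fun z hz => ⟨z, ?_⟩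
    · intro T₁ T₂ h g y hy
      have := hrestr h (g ≫ f) _ y hy
      rwa [← mapAb_comp_apply, ← Category.assoc] at this
    · exact fun T₁ g y y' => huniq _ _ _ _
    · intro T₁ g hg
      obtain ⟨x, hx⟩ := hloc g hg
      let t : (I.cocomplex.X 0).obj.obj (op T₁) :=
        θ.hom.app (op (Over.mk (g ≫ f))) (Q.obj.map g.op q)
      obtain ⟨c, hc⟩ := exists_aug I T₁ (H.h (g ≫ f) x - t)
        (by rw [map_sub]; simp only [t]; rw [hdθ, ← hx, ha (g ≫ f) x, sub_self])
      refine ⟨(x.act (-c)).1, (x.act (-c)).2, (B.πQ_act _ _ _).trans hx, ?_⟩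
      change H.h (g ≫ f) (x.act (-c)) = _
      rw [H.act, map_neg, hc]
      abel
    · have hp : B.πP T' z = P.obj.map f.op p := sepAb hR fun T₁ g hg => by
        rw [← B.πP_map, (hz g hg).choose, mapAb_comp_apply]
      refine ⟨hp, sepAb hR fun T₁ g hg => ?_, sepAb hR fun T₁ g hg => ?_⟩
      · rw [← B.πQ_map, (hz g hg).choose_spec.1]
      · rw [H.nat, BiextExtn.over_nat θ f g q]
        exact (H.congr rfl _ _ rfl).trans (hz g hg).choose_spec.2
  choose y hy using @hex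
  refine ⟨fun i => ⟨y i.2.1 i.2.2, (hy i.2.1 i.2.2).choose_spec.1⟩,
    ⟨fun i => (hy i.2.1 i.2.2).choose, fun T' T'' f g q => ?_, fun T' f q q' => Fb.ext ?_⟩⟩
  · exact huniq _ _ _ _ (hrestr g f q _ (hy f q)) (hy (g ≫ f) _)
  · refine huniq f (q + q') _ _ (hy f (q + q')) ?_
    obtain ⟨hp, hq, he⟩ := hy f q
    obtain ⟨hp', hq', he'⟩ := hy f q'
    refine ⟨(Xp.mk' _ hp + Xp.mk' _ hp').2, (B.πQ_add₂ _ _ _ _).trans (congrArg₂ (· + ·) hq hq'), ?_⟩
    refine (H.congr rfl _ (Xp.mk' _ hp + Xp.mk' _ hp') rfl).trans ?_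
    rw [H.add]
    exact (congrArg₂ (· + ·) he he').trans (map_add _ q q').symm

end Res

section Main

variable [HasSheafify J AddCommGrpCat.{u + 1}] [HasInjectiveResolutions (Sheaf J AddCommGrpCat.{u + 1})]

/-- The vanishing of `Hom(P, 𝓔xt¹(Q, G))` gives local partial splittings. -/
theorem exists_local (h₂ : ∀ φ : P ⟶ (HomSh.extSh J Q 1).obj G, φ = 0) (T : C)
    (p : P.obj.obj (op T)) : ∃ R ∈ J T, ∀ ⦃T' : C⦄ (f : T' ⟶ T),
      R f → ∃ σ : BiextExtn.K B T', BiextExtn.IsSec (P.obj.map f.op p) σ := by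
  let I : InjectiveResolution G := (HasInjectiveResolution.out (Z := G)).some
  let K := ((HomSh.homShFunctor J Q).mapHomologicalComplex (ComplexShape.up ℕ)).obj I.cocomplex
  let S := K.sc' 0 1 2
  let e : S.homology ≅ (HomSh.extSh J Q 1).obj G :=
    (K.homologyIsoSc' 0 1 2 (by simp) (by simp)).symm ≪≫
      (I.isoRightDerivedObj (HomSh.homShFunctor J Q) 1).symm ≪≫
      eqToIso (by rw [HomSh.extSh_def])
  have hSg : ∀ (T : C) (a : Q.over T ⟶ (I.cocomplex.X 1).over T),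
      a ≫ (J.overPullback _ T).map (I.cocomplex.d 1 2) = 0 → S.g.hom.app (op T) a = 0 := by
    intro T a h
    change (J.overPullback _ T).map (𝟙 Q) ≫ a ≫ (J.overPullback _ T).map (I.cocomplex.d 1 2) = 0
    rw [h, comp_zero]
  have hSf : ∀ (T : C) (θ : Q.over T ⟶ (I.cocomplex.X 0).over T),
      S.f.hom.app (op T) θ = θ ≫ (J.overPullback _ T).map (I.cocomplex.d 0 1) := by
    intro T θ
    change (J.overPullback _ T).map (𝟙 Q) ≫ θ ≫ (J.overPullback _ T).map (I.cocomplex.d 0 1) = _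
    rw [CategoryTheory.Functor.map_id]
    exact Category.id_comp _
  have hcl : ∀ (T : C) (p : P.obj.obj (op T)), ∃ c : S.homology.obj.obj (op T),
      ∀ (H : Good B I p) (a : Q.over T ⟶ (I.cocomplex.X 1).over T), Assoc B I H a →
        ∀ z : S.cycles.obj.obj (op T), S.iCycles.hom.app (op T) z = a →
          S.homologyπ.hom.app (op T) z = c := by
    intro T p
    obtain ⟨H₀⟩ := nonempty_good B I p
    obtain ⟨a₀, ha₀⟩ := exists_assoc B I H₀
    obtain ⟨z₀, hz₀⟩ := exists_section_lift S.iCycles S.g S.iCycles_g S.cyclesIsKernel T a₀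
      (hSg T a₀ (assoc_cycle B I H₀ a₀ ha₀))
    refine ⟨S.homologyπ.hom.app (op T) z₀, fun H a ha z hz => ?_⟩
    obtain ⟨H0⟩ := nonempty_good B I (0 : P.obj.obj (op T))
    obtain ⟨b, hb⟩ := exists_assoc B I H0
    obtain ⟨θ, hθ⟩ : ∃ θ : Q.over T ⟶ (I.cocomplex.X 0).over T,
        θ ≫ (J.overPullback _ T).map (I.cocomplex.d 0 1) = a - a₀ := by
      have h0 : p = p + 0 := (add_zero p).symm
      have cast : ∀ (r : P.obj.obj (op T)), p = r → ∀ (H : Good B I p)
          (a : Q.over T ⟶ (I.cocomplex.X 1).over T), Assoc B I H a →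
          ∃ H' : Good B I r, Assoc B I H' a := by
        rintro r rfl H a ha; exact ⟨H, ha⟩
      obtain ⟨K₁, hK₁⟩ := cast _ h0 H a ha
      obtain ⟨K₂, hK₂⟩ := cast _ h0 H₀ a₀ ha₀
      obtain ⟨θ₁, h1⟩ := exists_difference B I H H0 K₁ a b a ha hb hK₁
      obtain ⟨θ₂, h2⟩ := exists_difference B I H H0 K₂ a b a₀ ha hb hK₂
      exact ⟨θ₁ - θ₂, by rw [Preadditive.sub_comp, h1, h2]; abel⟩
    have hinj := injective_app S.iCycles T
    have ez : z = z₀ + S.toCycles.hom.app (op T) θ := by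
      refine hinj ?_
      rw [map_add, hz, hz₀]
      have h3 : S.iCycles.hom.app (op T) (S.toCycles.hom.app (op T) θ) = S.f.hom.app (op T) θ :=
        congrArg (fun m : S.X₁ ⟶ S.X₂ => m.hom.app (op T) θ) S.toCycles_i
      rw [h3, hSf, hθ]
      exact (add_sub_cancel a₀ a).symm
    rw [ez, map_add]
    have h4 : S.homologyπ.hom.app (op T) (S.toCycles.hom.app (op T) θ) = 0 :=
      congrArg (fun m : S.X₁ ⟶ S.homology => m.hom.app (op T) θ) S.toCycles_comp_homologyπ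
    rw [h4, add_zero]
  choose c hc using hcl
  have cycles_of : ∀ (T : C) (p : P.obj.obj (op T)), ∃ (H : Good B I p)
      (a : Q.over T ⟶ (I.cocomplex.X 1).over T) (z : S.cycles.obj.obj (op T)),
      Assoc B I H a ∧ S.iCycles.hom.app (op T) z = a := by
    intro T p
    obtain ⟨H⟩ := nonempty_good B I p
    obtain ⟨a, ha⟩ := exists_assoc B I H
    obtain ⟨z, hz⟩ := exists_section_lift S.iCycles S.g S.iCycles_g S.cyclesIsKernel T a
      (hSg T a (assoc_cycle B I H a ha))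
    exact ⟨H, a, z, ha, hz⟩
  have hadd : ∀ (T : C) (p p' : P.obj.obj (op T)), c T (p + p') = c T p + c T p' := by
    intro T p p'
    obtain ⟨H, a, z, ha, hz⟩ := cycles_of T p
    obtain ⟨H', a', z', ha', hz'⟩ := cycles_of T p'
    obtain ⟨H'', a'', z'', ha'', hz''⟩ := cycles_of T (p + p')
    obtain ⟨θ, hθ⟩ := exists_difference B I H H' H'' a a' a'' ha ha' ha''
    rw [← hc T p H a ha z hz, ← hc T p' H' a' ha' z' hz', ← hc T _ H'' a'' ha'' z'' hz'']
    have ez : z'' = z + z' + S.toCycles.hom.app (op T) θ := by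
      refine injective_app S.iCycles T ?_
      rw [map_add, map_add, hz, hz', hz'']
      have h3 : S.iCycles.hom.app (op T) (S.toCycles.hom.app (op T) θ) = S.f.hom.app (op T) θ :=
        congrArg (fun m : S.X₁ ⟶ S.X₂ => m.hom.app (op T) θ) S.toCycles_i
      rw [h3, hSf, hθ]
      change a'' = a + a' + (a'' - a - a')
      abel
    rw [ez, map_add, map_add]
    have h4 : S.homologyπ.hom.app (op T) (S.toCycles.hom.app (op T) θ) = 0 :=
      congrArg (fun m : S.X₁ ⟶ S.homology => m.hom.app (op T) θ) S.toCycles_comp_homologyπ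
    rw [h4, add_zero]
  have hassoc : ∀ {T T' : C} (g : T' ⟶ T) (p : P.obj.obj (op T)) (H : Good B I p)
      (a : Q.over T ⟶ (I.cocomplex.X 1).over T), Assoc B I H a →
      Assoc B I (H.restr g) ((HomSh.homSh J Q (I.cocomplex.X 1)).obj.map g.op a) :=
    fun g p H a ha T₁ f x =>
      (BiextExtn.homSh_app_comp (G := I.cocomplex.X 1) a g f _).trans
        (ha (f ≫ g) ⟨x.1, x.2.trans (mapAb_comp_apply f g p).symm⟩)
  let φ : P ⟶ S.homology :=
    ⟨{ app := fun T => AddCommGrpCat.ofHom (AddMonoidHom.mk' (c T.unop) (hadd T.unop))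
       naturality := fun T T' g => AddCommGrpCat.ext fun p => by
         obtain ⟨H, a, z, ha, hz⟩ := cycles_of T.unop p
         change c T'.unop (P.obj.map g p) = S.homology.obj.map g (c T.unop p)
         rw [← hc T.unop p H a ha z hz, ← NatTrans.naturality_apply S.homologyπ.hom g z]
         refine (hc T'.unop _ (H.restr g.unop) _ (hassoc g.unop p H a ha) _ ?_).symm
         refine (NatTrans.naturality_apply S.iCycles.hom g z).trans ?_
         rw [hz]
         rfl }⟩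
  have hφ : φ = 0 := by
    rw [← cancel_mono e.hom, zero_comp]
    exact h₂ _
  obtain ⟨H, a, z, ha, hz⟩ := cycles_of T p
  have hz0 : S.homologyπ.hom.app (op T) z = 0 := by
    rw [hc T p H a ha z hz]
    exact congrArg (fun m : P ⟶ S.homology => m.hom.app (op T) p) hφ
  have hex : (ShortComplex.mk S.toCycles S.homologyπ S.toCycles_comp_homologyπ).Exact :=
    ShortComplex.exact_of_g_is_cokernel _ S.homologyIsCokernel
  refine ⟨_, Lib.HomShDual.exists_local_lift J hex z hz0, fun T' g hg => ?_⟩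
  obtain ⟨θ, hθ⟩ := hg
  refine exists_isSec B I (H.restr g) _ (hassoc g p H a ha) θ ?_
  rw [← hSf]
  have h3 : S.iCycles.hom.app (op T') (S.toCycles.hom.app (op T') θ) = S.f.hom.app (op T') θ :=
    congrArg (fun m : S.X₁ ⟶ S.X₂ => m.hom.app (op T') θ) S.toCycles_i
  refine h3.symm.trans ((congrArg _ hθ).trans ((natAb S.iCycles g z).trans ?_))
  rw [hz]
  rfl

end Main

end Groth.Agent.H4.BiextLocal
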